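/-
The signed count of chains of a finite set in a partial order (minus the reduced Euler characteristic of its
order complex), with the deletion, retraction and splitting rules.
-/
import Mathlib

set_option autoImplicit false

namespace Cfsg.Agent.PolarSteinberg

open Finset

variable {α : Type*} [PartialOrder α]

open scoped Classical in
/-- `Σ (-1)^|C|` over the chains `C ⊆ s`, the empty one included. -/
noncomputable def chainSum (s : Finset α) : ℤ :=
  ∑ C ∈ s.powerset.filter (fun C : Finset α => IsChain (· ≤ ·) (C : Set α)), (-1) ^ C.card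

theorem chainSum_eq [DecidableEq α] (s : Finset α)
    [DecidablePred fun C : Finset α => IsChain (· ≤ ·) (C : Set α)] :
    chainSum s = ∑ C ∈ s.powerset.filter (fun C : Finset α => IsChain (· ≤ ·) (C : Set α)), (-1 : ℤ) ^ C.card := by
  unfold chainSum
  congr!

@[simp] theorem chainSum_empty : chainSum (∅ : Finset α) = 1 := by
  classical
  simp [chainSum, Finset.filter_singleton]

open scoped Classical in
theorem chainSum_congr {β : Type*} [PartialOrder β] {s : Finset α} {t : Finset β} (φ : α → β)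
    (hmem : ∀ x ∈ s, φ x ∈ t) (hsurj : ∀ y ∈ t, ∃ x ∈ s, φ x = y)
    (hle : ∀ x ∈ s, ∀ y ∈ s, φ x ≤ φ y ↔ x ≤ y) : chainSum s = chainSum t := by
  have hinj : Set.InjOn φ (s : Set α) := fun x hx y hy h =>
    le_antisymm ((hle x hx y hy).1 h.le) ((hle y hy x hx).1 h.ge)
  have hchain : ∀ C : Finset α, C ⊆ s →
      (IsChain (· ≤ ·) ((C.image φ : Finset β) : Set β) ↔ IsChain (· ≤ ·) (C : Set α)) := by
    intro C hC
    constructor
    · intro h x hx y hy hxy
      have := h (Finset.mem_coe.2 (Finset.mem_image_of_mem φ hx)) (Finset.mem_coe.2 (Finset.mem_image_of_mem φ hy))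
        (fun e => hxy (hinj (hC hx) (hC hy) e))
      rcases this with h' | h'
      · exact Or.inl ((hle x (hC hx) y (hC hy)).1 h')
      · exact Or.inr ((hle y (hC hy) x (hC hx)).1 h')
    · intro h u hu v hv huv
      obtain ⟨x, hx, rfl⟩ := Finset.mem_image.1 hu
      obtain ⟨y, hy, rfl⟩ := Finset.mem_image.1 hv
      rcases h hx hy (fun e => huv (e ▸ rfl)) with h' | h'
      · exact Or.inl ((hle x (hC hx) y (hC hy)).2 h')
      · exact Or.inr ((hle y (hC hy) x (hC hx)).2 h')
  unfold chainSum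
  refine Finset.sum_bij (fun C _ => C.image φ) ?_ ?_ ?_ ?_
  · intro C hC
    simp only [mem_filter, mem_powerset] at hC ⊢
    exact ⟨Finset.image_subset_iff.2 fun x hx => hmem x (hC.1 hx), (hchain C hC.1).2 hC.2⟩
  · intro C hC D hD h
    simp only [mem_filter, mem_powerset] at hC hD
    ext x
    constructor
    · intro hx
      obtain ⟨y, hy, hxy⟩ := Finset.mem_image.1 (h ▸ Finset.mem_image_of_mem φ hx)
      rwa [← hinj (hD.1 hy) (hC.1 hx) hxy]
    · intro hx
      obtain ⟨y, hy, hxy⟩ := Finset.mem_image.1 (h.symm ▸ Finset.mem_image_of_mem φ hx)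
      rwa [← hinj (hC.1 hy) (hD.1 hx) hxy]
  · intro D hD
    simp only [mem_filter, mem_powerset] at hD
    have himg : (s.filter fun x => φ x ∈ D).image φ = D := by
      ext y
      simp only [mem_image, mem_filter]
      exact ⟨fun ⟨x, ⟨_, hx⟩, e⟩ => e ▸ hx, fun hy => by
        obtain ⟨x, hx, rfl⟩ := hsurj y (hD.1 hy)
        exact ⟨x, ⟨hx, hy⟩, rfl⟩⟩
    refine ⟨s.filter fun x => φ x ∈ D, ?_, himg⟩
    simp only [mem_filter, mem_powerset]
    refine ⟨Finset.filter_subset _ _, (hchain _ (Finset.filter_subset _ _)).1 ?_⟩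
    rw [himg]
    exact hD.2
  · intro C hC
    simp only [mem_filter, mem_powerset] at hC
    rw [Finset.card_image_of_injOn (hinj.mono (Finset.coe_subset.2 hC.1))]

open scoped Classical in
/-- Deletion of one element. -/
theorem chainSum_erase {s : Finset α} {x : α} (hx : x ∈ s) :
    chainSum s = chainSum (s.erase x) - chainSum ((s.erase x).filter fun y => y ≤ x ∨ x ≤ y) := by
  have hx' : x ∉ s.erase x := Finset.notMem_erase x s
  have key : ∀ C ∈ (s.erase x).powerset, x ∉ C := fun C hC h => hx' (Finset.mem_powerset.1 hC h)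
  unfold chainSum
  conv_lhs => rw [← Finset.insert_erase hx]
  rw [Finset.sum_filter, Finset.sum_powerset_insert hx']
  simp only [Finset.sum_filter]
  rw [sub_eq_add_neg]
  congr 1
  rw [← Finset.sum_neg_distrib]
  refine (Finset.sum_subset (Finset.powerset_mono.2 (Finset.filter_subset _ _)) ?_).symm.trans
    (Finset.sum_congr rfl fun C hC => ?_)
  · intro C hC hCn
    rw [if_neg]
    intro hch
    refine hCn (Finset.mem_powerset.2 fun y hy => Finset.mem_filter.2 ⟨Finset.mem_powerset.1 hC hy, ?_⟩)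
    have hne : y ≠ x := fun e => key C hC (e ▸ hy)
    exact hch (Finset.mem_coe.2 (Finset.mem_insert_of_mem hy)) (Finset.mem_coe.2 (Finset.mem_insert_self x C)) hne
  · have hC' := Finset.mem_powerset.1 hC
    have hxC : x ∉ C := fun h => hx' (Finset.filter_subset _ _ (hC' h))
    have hiff : IsChain (· ≤ ·) ((insert x C : Finset α) : Set α) ↔ IsChain (· ≤ ·) (C : Set α) := by
      rw [Finset.coe_insert]
      exact ⟨fun h => h.mono (Set.subset_insert _ _),
        fun h => h.insert fun y hy _ => ((Finset.mem_filter.1 (hC' hy)).2).symm⟩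
    by_cases hch : IsChain (· ≤ ·) (C : Set α)
    · rw [if_pos (hiff.2 hch), if_pos hch, Finset.card_insert_of_notMem hxC, pow_succ, mul_neg_one]
    · rw [if_neg (fun h => hch (hiff.1 h)), if_neg hch, neg_zero]

open scoped Classical in
/-- An element comparable with all others makes the sum vanish. -/
theorem chainSum_eq_zero {s : Finset α} {x : α} (hx : x ∈ s) (h : ∀ y ∈ s, y ≤ x ∨ x ≤ y) :
    chainSum s = 0 := by
  rw [chainSum_erase hx, Finset.filter_true_of_mem (fun y hy => h y (Finset.mem_of_mem_erase hy)), sub_self]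

open scoped Classical in
/-- A monotone idempotent decreasing map retracts the sum onto its fixed points. -/
theorem chainSum_retract {s : Finset α} (φ : α → α) (hmem : ∀ x ∈ s, φ x ∈ s)
    (hmono : ∀ x ∈ s, ∀ y ∈ s, x ≤ y → φ x ≤ φ y) (hle : ∀ x ∈ s, φ x ≤ x)
    (hidem : ∀ x ∈ s, φ (φ x) = φ x) : chainSum s = chainSum (s.filter fun x => φ x = x) := by
  induction hn : s.card using Nat.strong_induction_on generalizing s with
  | _ n ih =>
  by_cases hall : ∀ x ∈ s, φ x = x
  · rw [Finset.filter_true_of_mem hall]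
  obtain ⟨x₀, hx₀, hne₀⟩ : ∃ x ∈ s, φ x ≠ x := by simpa using hall
  obtain ⟨x, hx⟩ := (s.filter fun y => φ y ≠ y).exists_minimal ⟨x₀, by simp [hx₀, hne₀]⟩
  obtain ⟨hxs, hxne⟩ : x ∈ s ∧ φ x ≠ x := (Finset.mem_filter (p := fun y => φ y ≠ y)).1 hx.1
  have hlt : φ x < x := lt_of_le_of_ne (hle x hxs) hxne
  have hlink : chainSum ((s.erase x).filter fun y => y ≤ x ∨ x ≤ y) = 0 := by
    refine chainSum_eq_zero (x := φ x) ?_ ?_
    · simp [hxne, hmem x hxs, hlt.le]
    · intro y hy
      simp only [mem_filter, mem_erase] at hy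
      rcases hy.2 with hyx | hxy
      · refine Or.inl ?_
        have hyfix : φ y = y := by
          by_contra hne
          exact hy.1.1 (le_antisymm hyx (hx.2 (Finset.mem_filter.2 ⟨hy.1.2, hne⟩) hyx))
        rw [← hyfix]
        exact hmono y hy.1.2 x hxs hyx
      · exact Or.inr (hlt.le.trans hxy)
  rw [chainSum_erase hxs, hlink, sub_zero]
  have hmem' : ∀ y ∈ s.erase x, φ y ∈ s.erase x := fun y hy => by
    refine Finset.mem_erase.2 ⟨fun e => hxne ?_, hmem y (Finset.mem_of_mem_erase hy)⟩
    rw [← e, hidem y (Finset.mem_of_mem_erase hy)]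
  rw [ih (s.erase x).card (hn ▸ Finset.card_erase_lt_of_mem hxs) hmem'
    (fun a ha b hb => hmono a (Finset.mem_of_mem_erase ha) b (Finset.mem_of_mem_erase hb))
    (fun a ha => hle a (Finset.mem_of_mem_erase ha)) (fun a ha => hidem a (Finset.mem_of_mem_erase ha)) rfl]
  congr 1
  rw [Finset.filter_erase, Finset.erase_eq_self.2]
  simp [hxne]

open scoped Classical in
theorem chainSum_toDual (s : Finset α) : chainSum (s.image (OrderDual.toDual : α → αᵒᵈ)) = chainSum s := by
  unfold chainSum
  refine Finset.sum_bij (fun C _ => C.image OrderDual.ofDual) ?_ ?_ ?_ ?_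
  · intro C hC
    simp only [mem_filter, mem_powerset] at hC ⊢
    refine ⟨fun x hx => ?_, fun u hu v hv huv => ?_⟩
    · obtain ⟨y, hy, rfl⟩ := Finset.mem_image.1 hx
      obtain ⟨z, hz, rfl⟩ := Finset.mem_image.1 (hC.1 hy)
      exact hz
    · obtain ⟨a, ha, rfl⟩ := Finset.mem_image.1 (Finset.mem_coe.1 hu)
      obtain ⟨b, hb, rfl⟩ := Finset.mem_image.1 (Finset.mem_coe.1 hv)
      exact (hC.2 (Finset.mem_coe.2 ha) (Finset.mem_coe.2 hb) (fun e => huv (e ▸ rfl))).symm
  · exact fun C _ D _ h => Finset.image_injective OrderDual.ofDual.injective h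
  · intro D hD
    simp only [mem_filter, mem_powerset] at hD
    refine ⟨D.image OrderDual.toDual, ?_, by simp [Finset.image_image]⟩
    simp only [mem_filter, mem_powerset]
    refine ⟨Finset.image_subset_image hD.1, fun u hu v hv huv => ?_⟩
    obtain ⟨a, ha, rfl⟩ := Finset.mem_image.1 (Finset.mem_coe.1 hu)
    obtain ⟨b, hb, rfl⟩ := Finset.mem_image.1 (Finset.mem_coe.1 hv)
    exact (hD.2 (Finset.mem_coe.2 ha) (Finset.mem_coe.2 hb) (fun e => huv (e ▸ rfl))).symm
  · intro C _
    rw [Finset.card_image_of_injective _ OrderDual.ofDual.injective]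

open scoped Classical in
/-- The increasing version of `chainSum_retract`. -/
theorem chainSum_retract_ge {s : Finset α} (φ : α → α) (hmem : ∀ x ∈ s, φ x ∈ s)
    (hmono : ∀ x ∈ s, ∀ y ∈ s, x ≤ y → φ x ≤ φ y) (hge : ∀ x ∈ s, x ≤ φ x)
    (hidem : ∀ x ∈ s, φ (φ x) = φ x) : chainSum s = chainSum (s.filter fun x => φ x = x) := by
  have h := chainSum_retract (s := s.image (OrderDual.toDual : α → αᵒᵈ))
    (fun z => OrderDual.toDual (φ (OrderDual.ofDual z)))
    (by simpa using hmem) (by simpa using fun a ha b hb hab => hmono b hb a ha hab)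
    (by simpa using hge) (by simpa using hidem)
  rw [chainSum_toDual, Finset.filter_image] at h
  simpa [chainSum_toDual] using h

open scoped Classical in
/-- Group the chains by their greatest member in `B`. -/
theorem chainSum_split (s : Finset α) (B : α → Prop) :
    chainSum s = chainSum (s.filter fun x => ¬ B x) -
      ∑ T ∈ s.filter B, chainSum (s.filter (· < T)) * chainSum (s.filter fun x => T < x ∧ ¬ B x) := by
  unfold chainSum
  rw [sub_eq_add_neg, ← Finset.sum_neg_distrib]
  rw [← Finset.sum_filter_add_sum_filter_not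
    (s.powerset.filter fun C : Finset α => IsChain (· ≤ ·) (C : Set α)) (fun C => ∀ x ∈ C, ¬ B x)]
  congr 1
  · refine Finset.sum_congr ?_ fun _ _ => rfl
    ext C
    simp only [mem_filter, mem_powerset, Finset.subset_iff]
    grind
  simp only [Finset.sum_mul_sum, ← Finset.sum_neg_distrib]
  simp only [← Finset.sum_product']
  rw [Finset.sum_sigma']
  refine (Finset.sum_bij (fun p _ => insert p.1 (p.2.1 ∪ p.2.2)) ?_ ?_ ?_ ?_).symm
  · rintro ⟨T, C₁, C₂⟩ hp
    simp only [mem_sigma, mem_product, mem_filter, mem_powerset] at hp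
    obtain ⟨⟨hTs, hTB⟩, ⟨h₁, hc₁⟩, h₂, hc₂⟩ := hp
    simp only [mem_filter, mem_powerset]
    refine ⟨⟨?_, ?_⟩, fun h => h T (Finset.mem_insert_self _ _) hTB⟩
    · intro x hx
      rcases Finset.mem_insert.1 hx with rfl | hx
      · exact hTs
      rcases Finset.mem_union.1 hx with hx | hx
      · exact (Finset.mem_filter.1 (h₁ hx)).1
      · exact (Finset.mem_filter.1 (h₂ hx)).1
    · intro u hu v hv huv
      simp only [Finset.coe_insert, Set.mem_insert_iff, Finset.coe_union, Set.mem_union, Finset.mem_coe] at hu hv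
      have lo : ∀ {x}, x ∈ C₁ → x < T := fun hx => (Finset.mem_filter.1 (h₁ hx)).2
      have hi : ∀ {x}, x ∈ C₂ → T < x := fun hx => (Finset.mem_filter.1 (h₂ hx)).2.1
      rcases hu with rfl | hu | hu <;> rcases hv with rfl | hv | hv
      · exact absurd rfl huv
      · exact Or.inr (lo hv).le
      · exact Or.inl (hi hv).le
      · exact Or.inl (lo hu).le
      · exact hc₁ hu hv huv
      · exact Or.inl ((lo hu).trans (hi hv)).le
      · exact Or.inr (hi hu).le
      · exact Or.inr ((lo hv).trans (hi hu)).le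
      · exact hc₂ hu hv huv
  · rintro ⟨T, C₁, C₂⟩ hp ⟨T', C₁', C₂'⟩ hp' he
    simp only [mem_sigma, mem_product, mem_filter, mem_powerset] at hp hp'
    obtain ⟨⟨hTs, hTB⟩, ⟨h₁, -⟩, h₂, -⟩ := hp
    obtain ⟨⟨hTs', hTB'⟩, ⟨h₁', -⟩, h₂', -⟩ := hp'
    have top : ∀ {T : α} {C₁ C₂ : Finset α}, C₁ ⊆ s.filter (· < T) → C₂ ⊆ s.filter (fun x => T < x ∧ ¬ B x) →
        ∀ x ∈ insert T (C₁ ∪ C₂), B x → x ≤ T := by
      intro T C₁ C₂ a b x hx hBx
      rcases Finset.mem_insert.1 hx with rfl | hx
      · exact le_rfl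
      rcases Finset.mem_union.1 hx with hx | hx
      · exact (Finset.mem_filter.1 (a hx)).2.le
      · exact absurd hBx (Finset.mem_filter.1 (b hx)).2.2
    have he' : insert T (C₁ ∪ C₂) = insert T' (C₁' ∪ C₂') := he
    obtain rfl : T = T' := le_antisymm (top h₁' h₂' T (he' ▸ Finset.mem_insert_self _ _) hTB)
      (top h₁ h₂ T' (he'.symm ▸ Finset.mem_insert_self _ _) hTB')
    have f1 : ∀ {C₁ C₂ : Finset α}, C₁ ⊆ s.filter (· < T) → C₂ ⊆ s.filter (fun x => T < x ∧ ¬ B x) →
        (insert T (C₁ ∪ C₂)).filter (· < T) = C₁ ∧ (insert T (C₁ ∪ C₂)).filter (T < ·) = C₂ := by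
      intro C₁ C₂ a b
      constructor <;> ext x <;> simp only [mem_filter, mem_insert, mem_union]
      · refine ⟨fun h => ?_, fun h => ⟨Or.inr (Or.inl h), (Finset.mem_filter.1 (a h)).2⟩⟩
        rcases h.1 with rfl | h' | h'
        · exact absurd h.2 (lt_irrefl _)
        · exact h'
        · exact absurd h.2 (Finset.mem_filter.1 (b h')).2.1.le.not_gt
      · refine ⟨fun h => ?_, fun h => ⟨Or.inr (Or.inr h), (Finset.mem_filter.1 (b h)).2.1⟩⟩
        rcases h.1 with rfl | h' | h'
        · exact absurd h.2 (lt_irrefl _)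
        · exact absurd h.2 (Finset.mem_filter.1 (a h')).2.le.not_gt
        · exact h'
    obtain ⟨e1, e2⟩ := f1 h₁ h₂
    obtain ⟨e1', e2'⟩ := f1 h₁' h₂'
    rw [he'] at e1 e2
    rw [← e1, ← e2, e1', e2']
  · intro C hC
    simp only [mem_filter, mem_powerset] at hC
    obtain ⟨⟨hCs, hch⟩, hBC⟩ := hC
    obtain ⟨x₀, hx₀, hx₀B⟩ : ∃ x ∈ C, B x := by simpa using hBC
    obtain ⟨T, hT⟩ := (C.filter B).exists_maximal ⟨x₀, Finset.mem_filter.2 ⟨hx₀, hx₀B⟩⟩
    obtain ⟨hTC, hTB⟩ : T ∈ C ∧ B T := Finset.mem_filter.1 hT.1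
    have cmp : ∀ x ∈ C, x ≠ T → x < T ∨ T < x ∧ ¬ B x := by
      intro x hx hne
      rcases hch hx hTC hne with h | h
      · exact Or.inl (lt_of_le_of_ne h hne)
      · refine Or.inr ⟨lt_of_le_of_ne h (Ne.symm hne), fun hBx => hne (le_antisymm ?_ h)⟩
        exact hT.2 (Finset.mem_filter.2 ⟨hx, hBx⟩) h
    refine ⟨⟨T, C.filter (· < T), C.filter (T < ·)⟩, ?_, ?_⟩
    · simp only [mem_sigma, mem_product, mem_filter, mem_powerset]
      refine ⟨⟨hCs hTC, hTB⟩, ⟨fun x hx => ?_, hch.mono (Finset.coe_subset.2 (Finset.filter_subset _ _))⟩,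
        fun x hx => ?_, hch.mono (Finset.coe_subset.2 (Finset.filter_subset _ _))⟩
      · simp only [mem_filter] at hx ⊢
        exact ⟨hCs hx.1, hx.2⟩
      · simp only [mem_filter] at hx ⊢
        refine ⟨hCs hx.1, hx.2, ?_⟩
        rcases cmp x hx.1 hx.2.ne' with h | h
        · exact absurd h hx.2.le.not_gt
        · exact h.2
    · show insert T (C.filter (· < T) ∪ C.filter (T < ·)) = C
      ext x
      simp only [mem_insert, mem_union, mem_filter]
      constructor
      · rintro (rfl | ⟨h, -⟩ | ⟨h, -⟩)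
        · exact hTC
        · exact h
        · exact h
      · intro hx
        by_cases he : x = T
        · exact Or.inl he
        rcases cmp x hx he with h | h
        · exact Or.inr (Or.inl ⟨hx, h⟩)
        · exact Or.inr (Or.inr ⟨hx, h.1⟩)
  · rintro ⟨T, C₁, C₂⟩ hp
    simp only [mem_sigma, mem_product, mem_filter, mem_powerset] at hp
    obtain ⟨-, ⟨h₁, -⟩, h₂, -⟩ := hp
    have hd : Disjoint C₁ C₂ := Finset.disjoint_left.2 fun x a b =>
      (Finset.mem_filter.1 (h₁ a)).2.le.not_gt (Finset.mem_filter.1 (h₂ b)).2.1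
    have hT : T ∉ C₁ ∪ C₂ := by
      intro h
      rcases Finset.mem_union.1 h with h | h
      · exact lt_irrefl _ (Finset.mem_filter.1 (h₁ h)).2
      · exact lt_irrefl _ (Finset.mem_filter.1 (h₂ h)).2.1
    rw [Finset.card_insert_of_notMem hT, Finset.card_union_of_disjoint hd, pow_succ, pow_add]
    ring

open scoped Classical in
/-- Group the chains by their greatest member. -/
theorem chainSum_top (s : Finset α) :
    chainSum s = 1 - ∑ T ∈ s, chainSum (s.filter (· < T)) := by
  rw [chainSum_split s (fun _ => True)]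
  simp

open scoped Classical in
/-- Group the chains by their least member. -/
theorem chainSum_bot (s : Finset α) :
    chainSum s = 1 - ∑ T ∈ s, chainSum (s.filter (T < ·)) := by
  rw [← chainSum_toDual, chainSum_top, Finset.sum_image (by simp)]
  congr 1
  refine Finset.sum_congr rfl fun T _ => ?_
  rw [Finset.filter_image, chainSum_toDual]
  rfl

end Cfsg.Agent.PolarSteinberg
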