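/-
Polar spaces inside a fixed formed space: non-degenerate subspaces, totally singular subspaces, opposite pairs
and their residues, and extension of isometries.
-/
import Mathlib

set_option autoImplicit false

namespace Cfsg.Agent.PolarSteinberg

open Module

/-- A formed space with enough isometries: a reflexive sesquilinear form, a set of singular vectors and a group
of isometries that extends all partial isometries moving singular vectors only. -/
structure Polar (F V : Type*) [Field F] [AddCommGroup V] [Module F V] where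
  σ : F →+* F
  ε : F
  B : V →ₛₗ[σ] V →ₗ[F] F
  Sing : V → Prop
  G : Subgroup (V ≃ₗ[F] V)
  A : AddSubgroup F
  eps_ne : ε ≠ 0
  swap : ∀ x y, B y x = ε * σ (B x y)
  sep : ∀ x, (∀ y, B x y = 0) → x = 0
  sing_zero : Sing 0
  sing_smul : ∀ (a : F) {v}, Sing v → Sing (a • v)
  sing_self : ∀ {v}, Sing v → B v v = 0
  sing_add : ∀ {u v}, Sing u → Sing v → B u v = 0 → Sing (u + v)
  partner : ∀ {w y}, Sing w → B w y = 1 → ∃ a : F, Sing (y + a • w)
  coset : ∀ {w y}, Sing w → Sing y → B w y = 1 → ∀ a : F, Sing (y + a • w) ↔ a ∈ A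
  map_B : ∀ {g}, g ∈ G → ∀ x y, B (g x) (g y) = B x y
  map_sing : ∀ {g}, g ∈ G → ∀ {v}, Sing v → Sing (g v)
  witt : ∀ (X : Submodule F V) (φ : V →ₗ[F] V), Set.InjOn φ (X : Set V) →
    (∀ x ∈ X, ∀ y ∈ X, B (φ x) (φ y) = B x y) →
    X ≤ Submodule.span F {x | x ∈ X ∧ (φ x = x ∨ Sing x ∧ Sing (φ x))} →
    ∃ g ∈ G, ∀ x ∈ X, g x = φ x

variable {F V : Type*} [Field F] [AddCommGroup V] [Module F V]

/-- `g` maps `W` into itself. -/
def Fixes (g : V ≃ₗ[F] V) (W : Submodule F V) : Prop := ∀ x ∈ W, g x ∈ W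

theorem Fixes.one (W : Submodule F V) : Fixes (1 : V ≃ₗ[F] V) W := fun _ h => h

theorem Fixes.mul {g h : V ≃ₗ[F] V} {W : Submodule F V} (hg : Fixes g W) (hh : Fixes h W) :
    Fixes (g * h) W := fun x hx => hg _ (hh x hx)

theorem Fixes.of_eq {g : V ≃ₗ[F] V} {W : Submodule F V} (h : ∀ x ∈ W, g x = x) : Fixes g W := fun x hx => by
  rw [h x hx]; exact hx

theorem Fixes.inf {g : V ≃ₗ[F] V} {W U : Submodule F V} (hW : Fixes g W) (hU : Fixes g U) : Fixes g (W ⊓ U) :=
  fun x hx => ⟨hW x hx.1, hU x hx.2⟩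

theorem Fixes.sup {g : V ≃ₗ[F] V} {W U : Submodule F V} (hW : Fixes g W) (hU : Fixes g U) : Fixes g (W ⊔ U) := by
  intro x hx
  obtain ⟨a, ha, b, hb, rfl⟩ := Submodule.mem_sup.1 hx
  rw [map_add]
  exact Submodule.add_mem_sup (hW a ha) (hU b hb)

theorem Fixes.bot (g : V ≃ₗ[F] V) : Fixes g ⊥ := fun x hx => by
  rw [(Submodule.mem_bot F).1 hx, map_zero]; exact zero_mem _

theorem Fixes.top (g : V ≃ₗ[F] V) : Fixes g ⊤ := fun _ _ => trivial

theorem Fixes.symm [Finite V] {g : V ≃ₗ[F] V} {W : Submodule F V} (hg : Fixes g W) : Fixes g⁻¹ W := by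
  intro x hx
  have hs : Function.Surjective (fun w : W => (⟨g w, hg w w.2⟩ : W)) :=
    Finite.injective_iff_surjective.1 fun a b h => Subtype.ext (g.injective (congrArg Subtype.val h))
  obtain ⟨w, hw⟩ := hs ⟨x, hx⟩
  have : g.symm x = w := by
    rw [LinearEquiv.symm_apply_eq]
    exact (congrArg Subtype.val hw).symm
  show g.symm x ∈ W
  rw [this]
  exact w.2

theorem exists_glue {A B : Submodule F V} (hAB : A ⊓ B = ⊥) (f : A →ₗ[F] V) (e : B →ₗ[F] V) :
    ∃ ψ : V →ₗ[F] V, (∀ a : A, ψ a = f a) ∧ ∀ b : B, ψ b = e b := by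
  have hinj : LinearMap.ker (A.subtype.coprod B.subtype) = ⊥ := by
    rw [LinearMap.ker_eq_bot']
    rintro ⟨a, b⟩ h
    have h' : (a : V) + (b : V) = 0 := h
    have ha : (a : V) ∈ A ⊓ B := ⟨a.2, by
      rw [show (a : V) = -(b : V) from eq_neg_of_add_eq_zero_left h']
      exact neg_mem b.2⟩
    rw [hAB, Submodule.mem_bot] at ha
    rw [ha, zero_add] at h'
    exact Prod.ext (Subtype.ext ha) (Subtype.ext h')
  obtain ⟨Ψ, hΨ⟩ := (A.subtype.coprod B.subtype).exists_leftInverse_of_injective hinj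
  refine ⟨(f.coprod e).comp Ψ, fun a => ?_, fun b => ?_⟩
  · have : Ψ a = (a, 0) := by simpa using LinearMap.congr_fun hΨ (a, 0)
    simp [this]
  · have : Ψ b = (0, b) := by simpa using LinearMap.congr_fun hΨ (0, b)
    simp [this]

namespace Polar

variable (P : Polar F V)

theorem comm {x y : V} (h : P.B x y = 0) : P.B y x = 0 := by rw [P.swap, h, map_zero, mul_zero]

theorem map_sing_iff {g : V ≃ₗ[F] V} (hg : g ∈ P.G) {v : V} : P.Sing (g v) ↔ P.Sing v :=
  ⟨fun h => by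
    have := P.map_sing (P.G.inv_mem hg) h
    rwa [show (g⁻¹ : V ≃ₗ[F] V) (g v) = v from g.symm_apply_apply v] at this, P.map_sing hg⟩

/-- The orthogonal complement. -/
def perp (W : Submodule F V) : Submodule F V where
  carrier := {y | ∀ x ∈ W, P.B x y = 0}
  add_mem' ha hb x hx := by rw [map_add, ha x hx, hb x hx, add_zero]
  zero_mem' x _ := map_zero _
  smul_mem' c y hy x hx := by rw [map_smul, hy x hx, smul_zero]

theorem mem_perp {W : Submodule F V} {y : V} : y ∈ P.perp W ↔ ∀ x ∈ W, P.B x y = 0 := Iff.rfl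

theorem mem_perp' {W : Submodule F V} {y : V} : y ∈ P.perp W ↔ ∀ x ∈ W, P.B y x = 0 :=
  ⟨fun h x hx => P.comm (h x hx), fun h x hx => P.comm (h x hx)⟩

theorem le_perp_comm {W U : Submodule F V} (h : W ≤ P.perp U) : U ≤ P.perp W :=
  fun _ hu _ hw => P.comm (h hw _ hu)

theorem perp_anti {W U : Submodule F V} (h : W ≤ U) : P.perp U ≤ P.perp W := fun _ hy x hx => hy x (h hx)

theorem perp_sup (W U : Submodule F V) : P.perp (W ⊔ U) = P.perp W ⊓ P.perp U := by
  refine le_antisymm (le_inf (P.perp_anti le_sup_left) (P.perp_anti le_sup_right)) fun y hy x hx => ?_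
  obtain ⟨a, ha, b, hb, rfl⟩ := Submodule.mem_sup.1 hx
  rw [map_add, LinearMap.add_apply, hy.1 a ha, hy.2 b hb, add_zero]

@[simp] theorem perp_bot : P.perp ⊥ = ⊤ := by
  refine eq_top_iff.2 fun y _ x hx => ?_
  rw [(Submodule.mem_bot F).1 hx, map_zero, LinearMap.zero_apply]

@[simp] theorem perp_top : P.perp ⊤ = ⊥ :=
  (Submodule.eq_bot_iff _).2 fun x hx => P.sep x fun y => (P.mem_perp'.1 hx) y trivial

theorem fixes_perp [Finite V] {g : V ≃ₗ[F] V} (hg : g ∈ P.G) {W : Submodule F V} (hW : Fixes g W) :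
    Fixes g (P.perp W) := by
  intro y hy x hx
  have h := P.map_B hg ((g⁻¹ : V ≃ₗ[F] V) x) y
  rw [show g ((g⁻¹ : V ≃ₗ[F] V) x) = x from g.apply_symm_apply x] at h
  rw [h]
  exact hy _ (hW.symm x hx)

/-! ### Totally singular subspaces -/

/-- Totally singular: all vectors singular and mutually orthogonal. -/
def TS (W : Submodule F V) : Prop := (∀ x ∈ W, P.Sing x) ∧ W ≤ P.perp W

variable {P} in
theorem TS.mono {W U : Submodule F V} (hW : P.TS W) (h : U ≤ W) : P.TS U :=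
  ⟨fun x hx => hW.1 x (h hx), h.trans (hW.2.trans (P.perp_anti h))⟩

variable {P} in
theorem TS.bot : P.TS ⊥ := ⟨fun x hx => by rw [(Submodule.mem_bot F).1 hx]; exact P.sing_zero, bot_le⟩

variable {P} in
theorem TS.sup {W U : Submodule F V} (hW : P.TS W) (hU : P.TS U) (h : U ≤ P.perp W) : P.TS (W ⊔ U) := by
  refine ⟨fun x hx => ?_, ?_⟩
  · obtain ⟨a, ha, b, hb, rfl⟩ := Submodule.mem_sup.1 hx
    exact P.sing_add (hW.1 a ha) (hU.1 b hb) (h hb a ha)
  · rw [P.perp_sup]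
    exact sup_le (le_inf hW.2 (P.le_perp_comm h)) (le_inf h hU.2)

variable {P} in
theorem TS.span {v : V} (hv : P.Sing v) : P.TS (Submodule.span F {v}) := by
  refine ⟨fun x hx => ?_, fun y hy x hx => ?_⟩
  · obtain ⟨a, rfl⟩ := Submodule.mem_span_singleton.1 hx
    exact P.sing_smul a hv
  · obtain ⟨a, rfl⟩ := Submodule.mem_span_singleton.1 hx
    obtain ⟨b, rfl⟩ := Submodule.mem_span_singleton.1 hy
    simp [P.sing_self hv]

/-! ### Non-degenerate subspaces -/

/-- A non-degenerate subspace. -/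
def NonDeg (C : Submodule F V) : Prop := IsCompl C (P.perp C)

theorem nonDeg_top : P.NonDeg ⊤ := by
  rw [NonDeg, P.perp_top]
  exact isCompl_top_bot

variable {P} in
theorem NonDeg.perp_perp {C : Submodule F V} (hC : P.NonDeg C) : P.perp (P.perp C) = C := by
  refine le_antisymm (fun v hv => ?_) (P.le_perp_comm le_rfl)
  obtain ⟨c, hc, d, hd, rfl⟩ := Submodule.mem_sup.1 (hC.sup_eq_top ▸ Submodule.mem_top : v ∈ C ⊔ P.perp C)
  have hd0 : d = 0 := P.sep d fun y => by
    obtain ⟨c', hc', d', hd', rfl⟩ := Submodule.mem_sup.1 (hC.sup_eq_top ▸ Submodule.mem_top : y ∈ C ⊔ P.perp C)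
    have h1 : P.B d c' = 0 := P.comm (hd c' hc')
    have h2 : P.B d' (c + d) = 0 := hv d' hd'
    rw [map_add, P.comm (hd' c hc), zero_add] at h2
    rw [map_add, h1, P.comm h2, add_zero]
  rw [hd0, add_zero]; exact hc

variable {P} in
theorem NonDeg.eq_zero {C : Submodule F V} (hC : P.NonDeg C) {x : V} (hx : x ∈ C)
    (h : ∀ y ∈ C, P.B x y = 0) : x = 0 :=
  (Submodule.disjoint_def.1 hC.disjoint) x hx ((P.mem_perp').2 h)

/-- The isometries that live on `C`. -/
def HC (C : Submodule F V) : Subgroup (V ≃ₗ[F] V) where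
  carrier := {g | g ∈ P.G ∧ ∀ x ∈ P.perp C, g x = x}
  mul_mem' {a b} ha hb := ⟨P.G.mul_mem ha.1 hb.1, fun x hx => by
    rw [LinearEquiv.mul_apply, hb.2 x hx, ha.2 x hx]⟩
  one_mem' := ⟨P.G.one_mem, fun _ _ => rfl⟩
  inv_mem' {a} ha := ⟨P.G.inv_mem ha.1, fun x hx => by
    show a.symm x = x
    rw [LinearEquiv.symm_apply_eq, ha.2 x hx]⟩

theorem mem_HC {C : Submodule F V} {g : V ≃ₗ[F] V} :
    g ∈ P.HC C ↔ g ∈ P.G ∧ ∀ x ∈ P.perp C, g x = x := Iff.rfl

theorem HC_top : P.HC ⊤ = P.G := by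
  ext g
  simp [mem_HC]

theorem HC_fixes {C : Submodule F V} (hC : P.NonDeg C) {g : V ≃ₗ[F] V} (hg : g ∈ P.HC C) : Fixes g C := by
  intro x hx
  rw [← hC.perp_perp]
  intro d hd
  rw [← hg.2 d hd, P.map_B hg.1]
  exact P.comm (hd x hx)

theorem HC_mono {C D : Submodule F V} (h : C ≤ D) : P.HC C ≤ P.HC D :=
  fun _ hg => ⟨hg.1, fun x hx => hg.2 x (P.perp_anti h hx)⟩

/-- Isometries of subspaces of `C` spanned by two totally singular ones extend inside `C`. -/
theorem exists_isom {C W T : Submodule F V} (hC : P.NonDeg C) (hWC : W ≤ C) (hTC : T ≤ C)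
    (hW : P.TS W) (hT : P.TS T) (ψ : V →ₗ[F] V) (hinj : Set.InjOn ψ ((W ⊔ T : Submodule F V) : Set V))
    (hWψ : ∀ w ∈ W, ψ w ∈ C ∧ P.Sing (ψ w)) (hTψ : ∀ t ∈ T, ψ t ∈ C ∧ P.Sing (ψ t))
    (hB : ∀ x ∈ W ⊔ T, ∀ y ∈ W ⊔ T, P.B (ψ x) (ψ y) = P.B x y) :
    ∃ g ∈ P.HC C, ∀ x ∈ W ⊔ T, g x = ψ x := by
  have hXC : W ⊔ T ≤ C := sup_le hWC hTC
  have hψC : ∀ x ∈ W ⊔ T, ψ x ∈ C := by
    intro x hx
    obtain ⟨a, ha, b, hb, rfl⟩ := Submodule.mem_sup.1 hx
    rw [map_add]; exact add_mem (hWψ a ha).1 (hTψ b hb).1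
  have hdisj : (W ⊔ T) ⊓ P.perp C = ⊥ := eq_bot_iff.2 fun x hx =>
    hC.disjoint.le_bot ⟨hXC hx.1, hx.2⟩
  obtain ⟨φ, hφ1, hφ2⟩ := exists_glue hdisj (ψ.comp (W ⊔ T).subtype) (P.perp C).subtype
  simp only [LinearMap.comp_apply, Submodule.subtype_apply, Subtype.forall] at hφ1 hφ2
  obtain ⟨g, hg, hgφ⟩ := P.witt ((W ⊔ T) ⊔ P.perp C) φ (by
      intro u hu v hv huv
      obtain ⟨a, ha, d, hd, rfl⟩ := Submodule.mem_sup.1 hu
      obtain ⟨a', ha', d', hd', rfl⟩ := Submodule.mem_sup.1 hv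
      simp only [map_add, hφ1 a ha, hφ1 a' ha', hφ2 d hd, hφ2 d' hd'] at huv
      have h : ψ a - ψ a' ∈ C ⊓ P.perp C :=
        ⟨sub_mem (hψC a ha) (hψC a' ha'), by
          rw [show ψ a - ψ a' = d' - d by rw [sub_eq_sub_iff_add_eq_add, huv, add_comm]]
          exact sub_mem hd' hd⟩
      rw [disjoint_iff.1 hC.disjoint, Submodule.mem_bot, sub_eq_zero] at h
      rw [h, add_right_inj] at huv
      rw [hinj ha ha' h, huv])
    (by
      intro u hu v hv
      obtain ⟨a, ha, d, hd, rfl⟩ := Submodule.mem_sup.1 hu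
      obtain ⟨a', ha', d', hd', rfl⟩ := Submodule.mem_sup.1 hv
      simp only [map_add, hφ1 a ha, hφ1 a' ha', hφ2 d hd, hφ2 d' hd', LinearMap.add_apply, hB a ha a' ha',
        hd' _ (hψC a ha), P.comm (hd _ (hψC a' ha')), hd' _ (hXC ha), P.comm (hd _ (hXC ha'))])
    (by
      refine sup_le (sup_le ?_ ?_) ?_ <;> intro x hx <;> apply Submodule.subset_span
      · refine ⟨Submodule.mem_sup_left (Submodule.mem_sup_left hx), Or.inr ⟨hW.1 x hx, ?_⟩⟩
        rw [hφ1 x (Submodule.mem_sup_left hx)]; exact (hWψ x hx).2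
      · refine ⟨Submodule.mem_sup_left (Submodule.mem_sup_right hx), Or.inr ⟨hT.1 x hx, ?_⟩⟩
        rw [hφ1 x (Submodule.mem_sup_right hx)]; exact (hTψ x hx).2
      · exact ⟨Submodule.mem_sup_right hx, Or.inl (hφ2 x hx)⟩)
  refine ⟨g, ⟨hg, fun x hx => ?_⟩, fun x hx => ?_⟩
  · rw [hgφ x (Submodule.mem_sup_right hx), hφ2 x hx]
  · rw [hgφ x (Submodule.mem_sup_left hx), hφ1 x hx]

/-! ### Opposite pairs -/

/-- An opposite pair of totally singular subspaces of `C`. -/
structure Opp (C W T : Submodule F V) : Prop where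
  tsW : P.TS W
  tsT : P.TS T
  leW : W ≤ C
  leT : T ≤ C
  W_perp : W ⊓ P.perp T = ⊥
  T_perp : T ⊓ P.perp W = ⊥

variable {P} in
theorem Opp.symm {C W T : Submodule F V} (h : P.Opp C W T) : P.Opp C T W :=
  ⟨h.tsT, h.tsW, h.leT, h.leW, h.T_perp, h.W_perp⟩

variable {P} in
theorem Opp.inf_eq_bot {C W T : Submodule F V} (h : P.Opp C W T) : W ⊓ T = ⊥ :=
  eq_bot_iff.2 fun _ hx => h.W_perp.le ⟨hx.1, h.tsT.2 hx.2⟩

/-- The residue of an opposite pair. -/
def residue (C W T : Submodule F V) : Submodule F V := C ⊓ P.perp W ⊓ P.perp T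

/-- The pairing with a basis of `T`. -/
noncomputable def pairMap {T : Submodule F V} {k : ℕ} (b : Fin k → T) (W : Submodule F V) :
    W →ₗ[F] (Fin k → F) :=
  LinearMap.pi fun j => (P.B (b j : V)).comp W.subtype

theorem pairMap_apply {T : Submodule F V} {k : ℕ} (b : Fin k → T) (W : Submodule F V) (w : W) (j : Fin k) :
    P.pairMap b W w j = P.B (b j : V) (w : V) := rfl

theorem basis_perp {T : Submodule F V} {k : ℕ} (b : Basis (Fin k) F T) {v : V}
    (h : ∀ j, P.B (b j : V) v = 0) : v ∈ P.perp T := by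
  intro t ht
  have hs : (⟨t, ht⟩ : T) ∈ Submodule.span F (Set.range b) := b.span_eq ▸ Submodule.mem_top
  have key : ∀ s ∈ Submodule.span F (Set.range b), P.B (s : V) v = 0 := by
    intro s hs
    induction hs using Submodule.span_induction with
    | mem x hx => obtain ⟨j, rfl⟩ := hx; exact h j
    | zero => simp
    | add x y _ _ hx hy => simp [hx, hy]
    | smul a x _ hx => simp [hx]
  exact key _ hs

variable {P} in
theorem Opp.pairMap_injective {C W T : Submodule F V} (h : P.Opp C W T) {k : ℕ} (b : Basis (Fin k) F T) :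
    Function.Injective (P.pairMap b W) := by
  rw [injective_iff_map_eq_zero]
  intro w hw
  have hw' : (w : V) ∈ W ⊓ P.perp T := ⟨w.2, P.basis_perp b fun j => congrFun hw j⟩
  rw [h.W_perp, Submodule.mem_bot] at hw'
  exact Subtype.ext hw'

variable [Finite V]

variable {P} in
theorem Opp.finrank_le {C W T : Submodule F V} (h : P.Opp C W T) : finrank F W ≤ finrank F T := by
  have := LinearMap.finrank_le_finrank_of_injective (h.pairMap_injective (Module.finBasis F T))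
  simpa using this

variable {P} in
theorem Opp.finrank_eq {C W T : Submodule F V} (h : P.Opp C W T) : finrank F W = finrank F T :=
  le_antisymm h.finrank_le h.symm.finrank_le

variable {P} in
theorem Opp.pairMap_bijective {C W T : Submodule F V} (h : P.Opp C W T) {k : ℕ} (b : Basis (Fin k) F T) :
    Function.Bijective (P.pairMap b W) := by
  refine ⟨h.pairMap_injective b, ?_⟩
  have hk : finrank F W = k := by
    rw [h.finrank_eq, Module.finrank_eq_card_basis b, Fintype.card_fin]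
  exact (LinearMap.injective_iff_surjective_of_finrank_eq_finrank (by rw [hk, finrank_pi, Fintype.card_fin])).1
    (h.pairMap_injective b)

variable {P} in
theorem Opp.exists_pair {C W T : Submodule F V} (h : P.Opp C W T) (v : V) :
    ∃ w ∈ W, v - w ∈ P.perp T := by
  let b := Module.finBasis F T
  obtain ⟨w, hw⟩ := (h.pairMap_bijective b).2 fun j => P.B (b j : V) v
  refine ⟨w, w.2, P.basis_perp b fun j => ?_⟩
  rw [map_sub, ← P.pairMap_apply b W w j, hw, sub_self]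

variable {P} in
theorem Opp.exists_decomp {C W T : Submodule F V} (h : P.Opp C W T) {v : V} (hv : v ∈ C) :
    ∃ w ∈ W, ∃ t ∈ T, ∃ c ∈ P.residue C W T, v = w + t + c := by
  obtain ⟨w, hw, hwT⟩ := h.exists_pair v
  obtain ⟨t, ht, htW⟩ := h.symm.exists_pair v
  refine ⟨w, hw, t, ht, v - w - t, ⟨⟨?_, ?_⟩, ?_⟩, by abel⟩
  · exact sub_mem (sub_mem hv (h.leW hw)) (h.leT ht)
  · rw [sub_right_comm]; exact sub_mem htW (h.tsW.2 hw)
  · exact sub_mem hwT (h.tsT.2 ht)

variable {P} in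
theorem Opp.residue_nonDeg {C W T : Submodule F V} (hC : P.NonDeg C) (h : P.Opp C W T) :
    P.NonDeg (P.residue C W T) ∧ P.perp (P.residue C W T) = W ⊔ T ⊔ P.perp C := by
  set C' := P.residue C W T
  have hle : W ⊔ T ⊔ P.perp C ≤ P.perp C' := by
    refine sup_le (sup_le ?_ ?_) (P.perp_anti (inf_le_left.trans inf_le_left))
    · exact P.le_perp_comm (inf_le_left.trans inf_le_right)
    · exact P.le_perp_comm inf_le_right
  have hdis : C' ⊓ P.perp C' = ⊥ := by
    refine eq_bot_iff.2 fun x ⟨hx, hx'⟩ => hC.eq_zero hx.1.1 fun y hy => ?_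
    obtain ⟨w, hw, t, ht, c, hc, rfl⟩ := h.exists_decomp hy
    rw [map_add, map_add, P.comm (hx.1.2 w hw), P.comm (hx.2 t ht), P.comm (hx' c hc)]
    simp
  have htop : C' ⊔ (W ⊔ T ⊔ P.perp C) = ⊤ := by
    refine eq_top_iff.2 fun v _ => ?_
    obtain ⟨c, hc, d, hd, rfl⟩ := Submodule.mem_sup.1 (hC.sup_eq_top ▸ Submodule.mem_top : v ∈ C ⊔ P.perp C)
    obtain ⟨w, hw, t, ht, c', hc', rfl⟩ := h.exists_decomp hc
    rw [show w + t + c' + d = c' + (w + t + d) by abel]
    exact Submodule.add_mem_sup hc' (Submodule.add_mem_sup (Submodule.add_mem_sup hw ht) hd)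
  have heq : P.perp C' = W ⊔ T ⊔ P.perp C := by
    refine le_antisymm (fun v hv => ?_) hle
    obtain ⟨c, hc, d, hd, rfl⟩ := Submodule.mem_sup.1 (htop ▸ Submodule.mem_top : v ∈ C' ⊔ (W ⊔ T ⊔ P.perp C))
    have : c ∈ C' ⊓ P.perp C' := ⟨hc, by simpa using sub_mem hv (hle hd)⟩
    rw [hdis, Submodule.mem_bot] at this
    rw [this, zero_add]; exact hd
  exact ⟨⟨disjoint_iff.2 hdis, codisjoint_iff.2 (by rw [heq]; exact htop)⟩, heq⟩

omit [Finite V] in
theorem residue_le {C W T : Submodule F V} : P.residue C W T ≤ C := inf_le_left.trans inf_le_left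

theorem residue_lt {C W T : Submodule F V} (hW : W ≠ ⊥) (h : P.Opp C W T) : P.residue C W T < C := by
  refine lt_of_le_of_ne P.residue_le fun e => hW (eq_bot_iff.2 fun w hw => ?_)
  have : w ∈ P.residue C W T := by rw [e]; exact h.leW hw
  exact h.W_perp.le ⟨hw, this.2⟩

/-- A linear bijection between two opposites extends to an isometry matching the partners. -/
theorem exists_pair_isom {C D W T W' T' : Submodule F V} (hD : P.NonDeg D) (h : P.Opp C W T)
    (h' : P.Opp C W' T') (hle : W ⊔ T ≤ D) (hle' : W' ⊔ T' ≤ D) (e : T ≃ₗ[F] T') :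
    ∃ g ∈ P.HC D, (∀ t : T, g t = e t) ∧ ∀ w ∈ W, g w ∈ W' := by
  let b := Module.finBasis F T
  let b' := b.map e
  let f : W →ₗ[F] W' :=
    (LinearEquiv.ofBijective (P.pairMap b' W') (h'.pairMap_bijective b')).symm.toLinearMap.comp (P.pairMap b W)
  have hfinj : Function.Injective f :=
    (LinearEquiv.ofBijective (P.pairMap b' W') (h'.pairMap_bijective b')).symm.injective.comp
      (h.pairMap_injective b)
  have hf : ∀ (w : W) (t : T), P.B (e t : V) (f w : V) = P.B (t : V) (w : V) := by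
    intro w t
    have hb : ∀ j, P.B (e (b j) : V) (f w : V) = P.B (b j : V) (w : V) := fun j => by
      have h1 : P.pairMap b' W' (f w) = P.pairMap b W w :=
        (LinearEquiv.ofBijective (P.pairMap b' W') (h'.pairMap_bijective b')).apply_symm_apply _
      exact congrFun h1 j
    have hs : t ∈ Submodule.span F (Set.range b) := b.span_eq ▸ Submodule.mem_top
    induction hs using Submodule.span_induction with
    | mem x hx => obtain ⟨j, rfl⟩ := hx; exact hb j
    | zero => simp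
    | add x y _ _ hx hy => simp [hx, hy]
    | smul a x _ hx => simp [hx]
  obtain ⟨ψ, hψ1, hψ2⟩ := exists_glue h.inf_eq_bot (W'.subtype.comp f) (T'.subtype.comp e.toLinearMap)
  simp only [LinearMap.comp_apply, Submodule.subtype_apply, LinearEquiv.coe_coe] at hψ1 hψ2
  obtain ⟨g, hg, hgψ⟩ := P.exists_isom hD (le_sup_left.trans hle) (le_sup_right.trans hle) h.tsW h.tsT ψ (by
      intro u hu v hv huv
      obtain ⟨a, ha, c, hc, rfl⟩ := Submodule.mem_sup.1 hu
      obtain ⟨a', ha', c', hc', rfl⟩ := Submodule.mem_sup.1 hv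
      rw [map_add, map_add, hψ1 ⟨a, ha⟩, hψ1 ⟨a', ha'⟩, hψ2 ⟨c, hc⟩, hψ2 ⟨c', hc'⟩] at huv
      have hz : ((f ⟨a, ha⟩ - f ⟨a', ha'⟩ : W') : V) ∈ W' ⊓ T' := by
        refine ⟨Submodule.coe_mem _, ?_⟩
        rw [Submodule.coe_sub, show ((f ⟨a, ha⟩ : W') : V) - (f ⟨a', ha'⟩ : W') =
          (e ⟨c', hc'⟩ : V) - e ⟨c, hc⟩ by rw [sub_eq_sub_iff_add_eq_add, huv, add_comm]]
        exact sub_mem (Submodule.coe_mem _) (Submodule.coe_mem _)
      rw [h'.inf_eq_bot, Submodule.mem_bot, Submodule.coe_sub, sub_eq_zero] at hz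
      rw [hz, add_right_inj] at huv
      rw [show a = a' from congrArg Subtype.val (hfinj (Subtype.ext hz)),
        show c = c' from congrArg Subtype.val (e.injective (Subtype.ext huv))])
    (fun w hw => by
      rw [hψ1 ⟨w, hw⟩]
      exact ⟨le_sup_left.trans hle' (Submodule.coe_mem _), h'.tsW.1 _ (Submodule.coe_mem _)⟩)
    (fun t ht => by
      rw [hψ2 ⟨t, ht⟩]
      exact ⟨le_sup_right.trans hle' (Submodule.coe_mem _), h'.tsT.1 _ (Submodule.coe_mem _)⟩)
    (by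
      intro u hu v hv
      obtain ⟨a, ha, c, hc, rfl⟩ := Submodule.mem_sup.1 hu
      obtain ⟨a', ha', c', hc', rfl⟩ := Submodule.mem_sup.1 hv
      have h1 : P.B (e ⟨c, hc⟩ : V) (f ⟨a', ha'⟩ : V) = P.B c a' := hf ⟨a', ha'⟩ ⟨c, hc⟩
      have h2 : P.B (f ⟨a, ha⟩ : V) (e ⟨c', hc'⟩ : V) = P.B a c' := by
        rw [P.swap (e ⟨c', hc'⟩ : V), P.swap c', hf ⟨a, ha⟩ ⟨c', hc'⟩]
      simp only [map_add, hψ1 ⟨a, ha⟩, hψ1 ⟨a', ha'⟩, hψ2 ⟨c, hc⟩, hψ2 ⟨c', hc'⟩, LinearMap.add_apply, h1, h2,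
        h'.tsW.2 (Submodule.coe_mem (f ⟨a', ha'⟩)) _ (Submodule.coe_mem (f ⟨a, ha⟩)),
        h'.tsT.2 (Submodule.coe_mem (e ⟨c', hc'⟩)) _ (Submodule.coe_mem (e ⟨c, hc⟩)),
        h.tsW.2 ha' _ ha, h.tsT.2 hc' _ hc])
  refine ⟨g, hg, fun t => ?_, fun w hw => ?_⟩
  · rw [hgψ _ (Submodule.mem_sup_right t.2)]; exact hψ2 t
  · rw [hgψ w (Submodule.mem_sup_left hw), hψ1 ⟨w, hw⟩]; exact Submodule.coe_mem _

omit [Finite V] in
/-- A singular vector outside the radical has a singular partner. -/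
theorem exists_partner {C : Submodule F V} (hC : P.NonDeg C) {w : V} (hw : w ∈ C) (hw0 : w ≠ 0)
    (hs : P.Sing w) : ∃ y ∈ C, P.Sing y ∧ P.B w y = 1 := by
  obtain ⟨z, hz, hz0⟩ : ∃ z ∈ C, P.B w z ≠ 0 := by
    by_contra hcon
    push Not at hcon
    exact hw0 (hC.eq_zero hw hcon)
  set y := (P.B w z)⁻¹ • z
  have hy : P.B w y = 1 := by simp [y, hz0]
  obtain ⟨a, ha⟩ := P.partner hs hy
  exact ⟨y + a • w, add_mem (C.smul_mem _ hz) (C.smul_mem _ hw), ha, by simp [hy, P.sing_self hs]⟩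

theorem exists_opp {C W : Submodule F V} (hC : P.NonDeg C) (hWC : W ≤ C) (hW : P.TS W) :
    ∃ T, P.Opp C W T := by
  induction hn : finrank F C using Nat.strong_induction_on generalizing C W with
  | _ n ih =>
  by_cases hW0 : W = ⊥
  · exact ⟨⊥, hW, TS.bot, hWC, bot_le, by simp [hW0], bot_inf_eq _⟩
  obtain ⟨w, hwW, hw0⟩ := W.exists_mem_ne_zero_of_ne_bot hW0
  obtain ⟨y, hyC, hys, hwy⟩ := P.exists_partner hC (hWC hwW) hw0 (hW.1 w hwW)
  have hline : ∀ {a b : V}, P.B a b ≠ 0 → Submodule.span F {b} ⊓ P.perp (Submodule.span F {a}) = ⊥ := by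
    intro a b hab
    refine eq_bot_iff.2 fun x ⟨hx, hx'⟩ => ?_
    obtain ⟨c, rfl⟩ := Submodule.mem_span_singleton.1 hx
    have := hx' a (Submodule.mem_span_singleton_self a)
    rw [map_smul, smul_eq_mul, mul_eq_zero] at this
    simp [this.resolve_right hab]
  have hyw : P.B y w ≠ 0 := fun e => one_ne_zero (hwy.symm.trans (P.comm e))
  have h1 : P.Opp C (Submodule.span F {w}) (Submodule.span F {y}) :=
    ⟨TS.span (hW.1 w hwW), TS.span hys, by simpa using hWC hwW, by simpa using hyC, hline hyw,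
      hline (by rw [hwy]; exact one_ne_zero)⟩
  obtain ⟨hC', -⟩ := h1.residue_nonDeg hC
  set C' := P.residue C (Submodule.span F {w}) (Submodule.span F {y})
  have hlt : finrank F C' < finrank F C :=
    Submodule.finrank_lt_finrank_of_lt (P.residue_lt (by simpa using hw0) h1)
  obtain ⟨T, hT⟩ := ih _ (hn ▸ hlt) (W := W ⊓ C') hC' inf_le_right (hW.mono inf_le_left) rfl
  have hTy : T ≤ P.perp (Submodule.span F {y}) := hT.leT.trans inf_le_right
  refine ⟨Submodule.span F {y} ⊔ T, hW, (TS.span hys).sup hT.tsT hTy, hWC,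
    sup_le (by simpa using hyC) (hT.leT.trans P.residue_le), ?_, ?_⟩
  · refine eq_bot_iff.2 fun v ⟨hv, hv'⟩ => ?_
    have hvC' : v ∈ W ⊓ C' := ⟨hv, ⟨hWC hv,
      P.perp_anti (by simpa using hwW) (hW.2 hv)⟩, P.perp_anti le_sup_left hv'⟩
    exact hT.W_perp.le ⟨hvC', P.perp_anti le_sup_right hv'⟩
  · refine eq_bot_iff.2 fun v ⟨hv, hv'⟩ => ?_
    obtain ⟨a, ha, t, ht, rfl⟩ := Submodule.mem_sup.1 hv
    obtain ⟨c, rfl⟩ := Submodule.mem_span_singleton.1 ha
    have hc : c = 0 := by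
      have := hv' w hwW
      rw [map_add, map_smul, hwy, (hT.leT ht).1.2 w (Submodule.mem_span_singleton_self w)] at this
      simpa using this
    rw [hc, zero_smul, zero_add] at hv' ⊢
    exact hT.T_perp.le ⟨ht, P.perp_anti inf_le_left hv'⟩

end Polar

end Cfsg.Agent.PolarSteinberg
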