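/-
The chain sums of fixed totally singular subspaces: the decomposition at a fixed subspace by its opposites and
the vanishing at elements with a power of order the characteristic.
-/
import Cfsg.Agent.Lib.PolarSteinberg.Chains
import Cfsg.Agent.Lib.PolarSteinberg.Space

set_option autoImplicit false

namespace Cfsg.Agent.PolarSteinberg

open scoped Classical

variable {F V : Type*} [Field F] [AddCommGroup V] [Module F V] [Finite V]

/-- Non-zero `g`-fixed proper subspaces of `T`. -/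
noncomputable def below (T : Submodule F V) (g : V ≃ₗ[F] V) : Finset (Submodule F V) :=
  (Set.toFinite {U : Submodule F V | U ≠ ⊥ ∧ U < T ∧ Fixes g U}).toFinset

theorem mem_below {T U : Submodule F V} {g : V ≃ₗ[F] V} :
    U ∈ below T g ↔ U ≠ ⊥ ∧ U < T ∧ Fixes g U := by
  simp [below]

/-- The sum over the flags of `T` fixed by `g`. -/
noncomputable def mu (T : Submodule F V) (g : V ≃ₗ[F] V) : ℤ := chainSum (below T g)

theorem mu_congr {T : Submodule F V} {g h : V ≃ₗ[F] V} (hgh : ∀ x ∈ T, g x = h x) : mu T g = mu T h := by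
  unfold mu
  congr 1
  ext U
  simp only [mem_below, and_congr_right_iff]
  intro _ hU
  exact forall₂_congr fun x hx => by rw [hgh x (hU.le hx)]

theorem mu_eq (T : Submodule F V) (g : V ≃ₗ[F] V) : mu T g = 1 - ∑ U ∈ below T g, mu U g := by
  rw [mu, chainSum_top]
  congr 1
  refine Finset.sum_congr rfl fun U hU => ?_
  rw [mu]
  congr 1
  ext W
  simp only [Finset.mem_filter, mem_below] at hU ⊢
  exact ⟨fun h => ⟨h.1.1, h.2, h.1.2.2⟩, fun h => ⟨⟨h.1, h.2.1.trans hU.2.1, h.2.2⟩, h.2.1⟩⟩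

namespace Polar

variable (P : Polar F V)

/-- The non-zero totally singular `g`-fixed subspaces of `C`. -/
noncomputable def tsFix (C : Submodule F V) (g : V ≃ₗ[F] V) : Finset (Submodule F V) :=
  (Set.toFinite {U : Submodule F V | U ≠ ⊥ ∧ U ≤ C ∧ P.TS U ∧ Fixes g U}).toFinset

theorem mem_tsFix {C U : Submodule F V} {g : V ≃ₗ[F] V} :
    U ∈ P.tsFix C g ↔ U ≠ ⊥ ∧ U ≤ C ∧ P.TS U ∧ Fixes g U := by
  simp [tsFix]

/-- The character value of `C` at `g`. -/
noncomputable def euler (C : Submodule F V) (g : V ≃ₗ[F] V) : ℤ := chainSum (P.tsFix C g)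

theorem euler_congr {C : Submodule F V} {g h : V ≃ₗ[F] V} (hgh : ∀ x ∈ C, g x = h x) :
    P.euler C g = P.euler C h := by
  unfold euler
  congr 1
  ext U
  simp only [mem_tsFix, and_congr_right_iff]
  intro _ hU _
  exact forall₂_congr fun x hx => by rw [hgh x (hU hx)]

theorem euler_top (C : Submodule F V) (g : V ≃ₗ[F] V) :
    P.euler C g = 1 - ∑ U ∈ P.tsFix C g, mu U g := by
  rw [euler, chainSum_top]
  congr 1
  refine Finset.sum_congr rfl fun U hU => ?_
  rw [mu]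
  congr 1
  ext W
  simp only [Finset.mem_filter, mem_tsFix, mem_below] at hU ⊢
  exact ⟨fun h => ⟨h.1.1, h.2, h.1.2.2.2⟩,
    fun h => ⟨⟨h.1, h.2.1.le.trans hU.2.1, hU.2.2.1.mono h.2.1.le, h.2.2⟩, h.2.1⟩⟩

/-- The opposites of `W` in `C` fixed by `g`. -/
noncomputable def oppSet (C W : Submodule F V) (g : V ≃ₗ[F] V) : Finset (Submodule F V) :=
  (Set.toFinite {T : Submodule F V | P.Opp C W T ∧ Fixes g T}).toFinset

theorem mem_oppSet {C W T : Submodule F V} {g : V ≃ₗ[F] V} :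
    T ∈ P.oppSet C W g ↔ P.Opp C W T ∧ Fixes g T := by
  simp [oppSet]

omit [Finite V] in
theorem residue_comm (C W T : Submodule F V) : P.residue C W T = P.residue C T W := by
  unfold residue
  rw [inf_assoc, inf_assoc, inf_comm (P.perp W)]

variable {P} in
theorem Opp.residue_inf {C W T : Submodule F V} (hC : P.NonDeg C) (h : P.Opp C W T) :
    W ⊓ P.residue C W T = ⊥ := by
  obtain ⟨hC', he⟩ := h.residue_nonDeg hC
  exact eq_bot_iff.2 fun x hx => hC'.disjoint.le_bot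
    ⟨hx.2, he.ge (Submodule.mem_sup_left (Submodule.mem_sup_left hx.1))⟩

variable {P} in
theorem Opp.sup_inf_residue {C W T U : Submodule F V} (h : P.Opp C W T) (hWU : W ≤ U) (hUC : U ≤ C)
    (hU : P.TS U) : U = W ⊔ U ⊓ P.residue C W T := by
  refine le_antisymm (fun v hv => ?_) (sup_le hWU inf_le_left)
  obtain ⟨w, hw, t, ht, c, hc, rfl⟩ := h.exists_decomp (hUC hv)
  have ht0 : t ∈ T ⊓ P.perp W := ⟨ht, fun x hx => by
    have h1 : P.B x (w + t + c) = 0 := hU.2 hv x (hWU hx)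
    rw [map_add, map_add, h.tsW.2 hw x hx, hc.1.2 x hx, zero_add, add_zero] at h1
    exact h1⟩
  rw [h.T_perp, Submodule.mem_bot] at ht0
  subst ht0
  rw [add_zero] at hv ⊢
  refine Submodule.add_mem_sup hw ⟨?_, hc⟩
  simpa using sub_mem hv (hWU hw)

variable {P} in
/-- The link of a fixed subspace is the residue of an opposite. -/
theorem Opp.link {C W T : Submodule F V} (hC : P.NonDeg C) (h : P.Opp C W T) {g : V ≃ₗ[F] V}
    (hg : g ∈ P.HC C) (hW : Fixes g W) (hT : Fixes g T) :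
    chainSum ((P.tsFix C g).filter (W < ·)) = P.euler (P.residue C W T) g := by
  have hres : Fixes g (P.residue C W T) :=
    ((P.HC_fixes hC hg).inf (P.fixes_perp hg.1 hW)).inf (P.fixes_perp hg.1 hT)
  unfold euler
  refine chainSum_congr (fun U => U ⊓ P.residue C W T) ?_ ?_ ?_
  · intro U hU
    simp only [Finset.mem_filter, mem_tsFix] at hU
    obtain ⟨⟨_, hUC, hUts, hUg⟩, hlt⟩ := hU
    refine (P.mem_tsFix).2 ⟨fun h0 => hlt.ne ?_, inf_le_right, hUts.mono inf_le_left, hUg.inf hres⟩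
    rw [h.sup_inf_residue hlt.le hUC hUts, h0, sup_bot_eq]
  · intro U hU
    obtain ⟨hU0, hUC, hUts, hUg⟩ := (P.mem_tsFix).1 hU
    have hinf : (W ⊔ U) ⊓ P.residue C W T = U := by
      rw [sup_comm, sup_inf_assoc_of_le W hUC, h.residue_inf hC, sup_bot_eq]
    refine ⟨W ⊔ U, Finset.mem_filter.2 ⟨(P.mem_tsFix).2 ⟨fun h0 => hU0 ?_, sup_le h.leW (hUC.trans P.residue_le),
      h.tsW.sup hUts (hUC.trans (inf_le_left.trans inf_le_right)), hW.sup hUg⟩, ?_⟩, hinf⟩
    · exact (sup_eq_bot_iff.1 h0).2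
    · refine lt_of_le_of_ne le_sup_left fun e => hU0 ?_
      rw [← hinf, ← e, h.residue_inf hC]
  · intro U hU U' hU'
    simp only [Finset.mem_filter, mem_tsFix] at hU hU'
    refine ⟨fun hle => ?_, fun hle => inf_le_inf_right _ hle⟩
    rw [h.sup_inf_residue hU.2.le hU.1.2.1 hU.1.2.2.1, h.sup_inf_residue hU'.2.le hU'.1.2.1 hU'.1.2.2.1]
    exact sup_le_sup_left hle _

/-- The value of `C` through the opposites of a fixed subspace. -/
theorem euler_decomp {C W : Submodule F V} (hC : P.NonDeg C) {g : V ≃ₗ[F] V} (hg : g ∈ P.HC C)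
    (hW : W ∈ P.tsFix C g) :
    P.euler C g = - ∑ T ∈ P.oppSet C W g, mu T g * P.euler (P.residue C W T) g := by
  obtain ⟨hW0, hWC, hWts, hWg⟩ := (P.mem_tsFix).1 hW
  have hperp : Fixes g (P.perp W) := P.fixes_perp hg.1 hWg
  rw [euler, chainSum_split (P.tsFix C g) (fun U => U ⊓ P.perp W = ⊥)]
  have hA : chainSum ((P.tsFix C g).filter fun U => ¬ U ⊓ P.perp W = ⊥) = 0 := by
    rw [chainSum_retract (fun U => U ⊓ P.perp W) ?_ (fun _ _ _ _ h => inf_le_inf_right _ h)
      (fun _ _ => inf_le_left) (fun U _ => by rw [inf_assoc, inf_idem]),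
      chainSum_retract_ge (fun U => U ⊔ W) ?_ (fun _ _ _ _ h => sup_le_sup_right h _)
      (fun _ _ => le_sup_left) (fun U _ => by rw [sup_assoc, sup_idem])]
    · refine chainSum_eq_zero (x := W) ?_ ?_
      · simp only [Finset.mem_filter]
        refine ⟨⟨⟨hW, ?_⟩, ?_⟩, sup_idem _⟩ <;> rw [inf_eq_left.2 hWts.2]
        exact hW0
      · intro U hU
        simp only [Finset.mem_filter] at hU
        exact Or.inr (sup_eq_left.1 hU.2)
    · intro U hU
      simp only [Finset.mem_filter, mem_tsFix] at hU ⊢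
      obtain ⟨⟨⟨hU0, hUC, hUts, hUg⟩, -⟩, hfix⟩ := hU
      have hUp : U ≤ P.perp W := inf_eq_left.1 hfix
      have h1 : (U ⊔ W) ⊓ P.perp W = U ⊔ W := inf_eq_left.2 (sup_le hUp hWts.2)
      refine ⟨⟨⟨fun h0 => hU0 (sup_eq_bot_iff.1 h0).1, sup_le hUC hWC, hUts.sup hWts (P.le_perp_comm hUp),
        hUg.sup hWg⟩, ?_⟩, h1⟩
      rw [h1]
      exact fun h0 => hU0 (sup_eq_bot_iff.1 h0).1
    · intro U hU
      simp only [Finset.mem_filter, mem_tsFix] at hU ⊢
      obtain ⟨⟨hU0, hUC, hUts, hUg⟩, hne⟩ := hU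
      exact ⟨⟨hne, inf_le_left.trans hUC, hUts.mono inf_le_left, hUg.inf hperp⟩, by
        rw [inf_assoc, inf_idem]; exact hne⟩
  refine (congrArg (· - _) (Eq.trans (by congr!) hA)).trans ?_
  rw [zero_sub]
  congr 1
  symm
  refine (Finset.sum_congr rfl fun T hT => ?_).trans (Finset.sum_subset ?_ ?_)
  · obtain ⟨hopp, hTg⟩ := (P.mem_oppSet).1 hT
    rw [mu, P.residue_comm, ← hopp.symm.link hC hg hTg hWg]
    congr 2
    · ext U
      simp only [Finset.mem_filter, mem_tsFix, mem_below]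
      exact ⟨fun h => ⟨⟨h.1, h.2.1.le.trans hopp.leT, hopp.tsT.mono h.2.1.le, h.2.2⟩, h.2.1⟩,
        fun h => ⟨h.1.1, h.2, h.1.2.2.2⟩⟩
    · ext U
      simp only [Finset.mem_filter]
      refine ⟨fun h => ⟨h.1, h.2, fun h0 => ?_⟩, fun h => ⟨h.1, h.2.1⟩⟩
      obtain ⟨⟨_, hUC, hUts, _⟩, hlt⟩ := (P.mem_tsFix).1 h.1, h.2
      have hU := hopp.symm.sup_inf_residue hlt.le hUC hUts
      have : U ⊓ P.residue C T W = ⊥ := by
        refine eq_bot_iff.2 fun x hx => h0.le ⟨hx.1, hx.2.2⟩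
      rw [this, sup_bot_eq] at hU
      exact hlt.ne hU.symm
  · intro T hT
    obtain ⟨hopp, hTg⟩ := (P.mem_oppSet).1 hT
    refine Finset.mem_filter.2 ⟨(P.mem_tsFix).2 ⟨fun h0 => hW0 ?_, hopp.leT, hopp.tsT, hTg⟩, hopp.T_perp⟩
    simpa [h0] using hopp.W_perp
  · intro T hT hnot
    simp only [Finset.mem_filter, mem_tsFix] at hT
    obtain ⟨⟨hT0, hTC, hTts, hTg⟩, hTp⟩ := hT
    set R := W ⊓ P.perp T with hR
    have hR0 : R ≠ ⊥ := fun h0 => hnot ((P.mem_oppSet).2 ⟨⟨hWts, hTts, hWC, hTC, h0, hTp⟩, hTg⟩)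
    have hRg : Fixes g R := hWg.inf (P.fixes_perp hg.1 hTg)
    have hTR : P.TS (T ⊔ R) := hTts.sup (hWts.mono inf_le_left) inf_le_right
    have hlt : T < T ⊔ R := by
      refine lt_of_le_of_ne le_sup_left fun e => hR0 (eq_bot_iff.2 fun x hx => hTp.le ⟨?_, hWts.2 hx.1⟩)
      rw [e]; exact Submodule.mem_sup_right hx
    have hRne : ¬ (T ⊔ R) ⊓ P.perp W = ⊥ := fun h0 => hR0 (eq_bot_iff.2 fun x hx =>
      h0.le ⟨Submodule.mem_sup_right hx, hWts.2 hx.1⟩)
    refine mul_eq_zero_of_right _ ?_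
    rw [chainSum_retract (fun U => T ⊔ U ⊓ P.perp W) ?_
      (fun _ _ _ _ h => sup_le_sup_left (inf_le_inf_right _ h) _) ?_ ?_,
      chainSum_retract_ge (fun U => U ⊔ R) ?_ (fun _ _ _ _ h => sup_le_sup_right h _)
      (fun _ _ => le_sup_left) (fun U _ => by rw [sup_assoc, sup_idem])]
    · refine chainSum_eq_zero (x := T ⊔ R) ?_ ?_
      · simp only [Finset.mem_filter, mem_tsFix]
        refine ⟨⟨⟨⟨fun h0 => hT0 (sup_eq_bot_iff.1 h0).1, sup_le hTC (inf_le_left.trans hWC), hTR,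
          hTg.sup hRg⟩, hlt, hRne⟩, ?_⟩, by rw [sup_assoc, sup_idem]⟩
        exact le_antisymm (sup_le le_sup_left inf_le_left)
          (sup_le le_sup_left (le_trans (le_inf le_sup_right (inf_le_left.trans hWts.2)) le_sup_right))
      · intro U hU
        simp only [Finset.mem_filter] at hU
        exact Or.inr (sup_le hU.1.1.2.1.le (sup_eq_left.1 hU.2))
    · intro U hU
      simp only [Finset.mem_filter, mem_tsFix] at hU ⊢
      obtain ⟨⟨⟨hU0, hUC, hUts, hUg⟩, hTU, hne⟩, hfix⟩ := hU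
      have hRU : R ≤ P.perp U := by
        rw [← hfix, P.perp_sup]
        exact le_inf inf_le_right (le_trans inf_le_left (P.le_perp_comm inf_le_right))
      refine ⟨⟨⟨fun h0 => hU0 (sup_eq_bot_iff.1 h0).1, sup_le hUC (inf_le_left.trans hWC),
        hUts.sup (hWts.mono inf_le_left) hRU, hUg.sup hRg⟩, hTU.trans_le le_sup_left,
        fun h0 => hne (eq_bot_iff.2 fun x hx => h0.le ⟨Submodule.mem_sup_left hx.1, hx.2⟩)⟩, ?_⟩
      refine le_antisymm (sup_le (hTU.le.trans le_sup_left) inf_le_left) (sup_le ?_ ?_)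
      · nth_rw 1 [← hfix]
        exact sup_le le_sup_left (le_trans (inf_le_inf_right _ le_sup_left) le_sup_right)
      · exact le_trans (le_inf le_sup_right (inf_le_left.trans hWts.2)) le_sup_right
    · intro U hU
      simp only [Finset.mem_filter, mem_tsFix] at hU ⊢
      obtain ⟨⟨hU0, hUC, hUts, hUg⟩, hTU, hne⟩ := hU
      have hle : T ⊔ U ⊓ P.perp W ≤ U := sup_le hTU.le inf_le_left
      have hne' : ¬ (T ⊔ U ⊓ P.perp W) ⊓ P.perp W = ⊥ := fun h0 => hne (eq_bot_iff.2 fun x hx =>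
        h0.le ⟨Submodule.mem_sup_right hx, hx.2⟩)
      refine ⟨⟨fun h0 => hT0 (sup_eq_bot_iff.1 h0).1, hle.trans hUC, hUts.mono hle,
        hTg.sup (hUg.inf hperp)⟩, lt_of_le_of_ne le_sup_left fun e => hne' ?_, hne'⟩
      rw [← e]; exact hTp
    · intro U hU
      simp only [Finset.mem_filter] at hU
      exact sup_le hU.2.1.le inf_le_left
    · intro U hU
      simp only [Finset.mem_filter] at hU
      refine le_antisymm (sup_le le_sup_left inf_le_left) (sup_le le_sup_left ?_)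
      exact le_trans (le_inf le_sup_right inf_le_right) le_sup_right

/-- Vanishing: a `g`-fixed singular vector space in the radical of the fixed space of a unipotent power. -/
theorem euler_eq_zero {g z : V ≃ₗ[F] V} (hg : g ∈ P.G) (hcomm : Commute g z)
    (hfix : ∀ U : Submodule F V, Fixes g U → Fixes z U)
    (huni : ∀ U : Submodule F V, Fixes z U → U ≠ ⊥ → ∃ x ∈ U, x ≠ 0 ∧ z x = x)
    (hsing : ∃ v, v ≠ 0 ∧ z v = v ∧ P.Sing v ∧ ∀ x, z x = x → P.B x v = 0) :
    P.euler ⊤ g = 0 := by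
  let K : Submodule F V := LinearMap.eqLocus z.toLinearMap LinearMap.id
  have hK : ∀ x, x ∈ K ↔ z x = x := fun x => Iff.rfl
  let R : Submodule F V :=
    { carrier := {v | v ∈ K ⊓ P.perp K ∧ P.Sing v}
      add_mem' := fun ha hb => ⟨add_mem ha.1 hb.1, P.sing_add ha.2 hb.2 (hb.1.2 _ ha.1.1)⟩
      zero_mem' := ⟨zero_mem _, P.sing_zero⟩
      smul_mem' := fun c v hv => ⟨Submodule.smul_mem _ c hv.1, P.sing_smul c hv.2⟩ }
  have hKg : Fixes g K := fun x hx => by
    rw [hK] at hx ⊢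
    have := LinearEquiv.congr_fun hcomm.eq x
    rw [LinearEquiv.mul_apply, LinearEquiv.mul_apply, hx] at this
    exact this.symm
  have hRg : Fixes g R := fun x hx =>
    ⟨(hKg.inf (P.fixes_perp hg hKg)) x hx.1, P.map_sing hg hx.2⟩
  have hRK : R ≤ K := fun x hx => hx.1.1
  have hRts : P.TS R := ⟨fun x hx => hx.2, fun x hx y hy => hx.1.2 y hy.1.1⟩
  have hR0 : R ≠ ⊥ := by
    obtain ⟨v, hv0, hzv, hvs, hvp⟩ := hsing
    exact fun h => hv0 ((Submodule.eq_bot_iff R).1 h v ⟨⟨hzv, fun x hx => hvp x hx⟩, hvs⟩)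
  rw [euler, chainSum_retract (fun U => U ⊓ K) ?_ (fun _ _ _ _ h => inf_le_inf_right _ h)
      (fun _ _ => inf_le_left) (fun U _ => by rw [inf_assoc, inf_idem]),
    chainSum_retract_ge (fun U => U ⊔ R) ?_ (fun _ _ _ _ h => sup_le_sup_right h _)
      (fun _ _ => le_sup_left) (fun U _ => by rw [sup_assoc, sup_idem])]
  · refine chainSum_eq_zero (x := R) ?_ ?_
    · simp only [Finset.mem_filter, mem_tsFix]
      exact ⟨⟨⟨hR0, le_top, hRts, hRg⟩, inf_eq_left.2 hRK⟩, sup_idem _⟩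
    · intro U hU
      simp only [Finset.mem_filter] at hU
      exact Or.inr (sup_eq_left.1 hU.2)
  · intro U hU
    simp only [Finset.mem_filter, mem_tsFix] at hU ⊢
    obtain ⟨⟨hU0, -, hUts, hUg⟩, hUK⟩ := hU
    have hUK' : U ≤ K := inf_eq_left.1 hUK
    refine ⟨⟨fun h0 => hU0 (sup_eq_bot_iff.1 h0).1, le_top, hUts.sup hRts ?_, hUg.sup hRg⟩,
      inf_eq_left.2 (sup_le hUK' hRK)⟩
    exact fun x hx y hy => hx.1.2 y (hUK' hy)
  · intro U hU
    obtain ⟨hU0, -, hUts, hUg⟩ := (P.mem_tsFix).1 hU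
    refine (P.mem_tsFix).2 ⟨fun h0 => ?_, le_top, hUts.mono inf_le_left, hUg.inf hKg⟩
    obtain ⟨x, hxU, hx0, hzx⟩ := huni U (hfix U hUg) hU0
    exact hx0 ((Submodule.eq_bot_iff _).1 h0 x ⟨hxU, hzx⟩)

end Polar

end Cfsg.Agent.PolarSteinberg
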