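/-
Averages of the chain sums over the isometry groups: the class function has mean zero and mean square one.
-/
import Cfsg.Agent.Lib.PolarSteinberg.Euler

set_option autoImplicit false

namespace Cfsg.Agent.PolarSteinberg

open scoped Classical
open Module

variable {F V : Type*} [Field F] [AddCommGroup V] [Module F V] [Finite V]

/-- The elements of a group of linear automorphisms. -/
noncomputable def elems (K : Subgroup (V ≃ₗ[F] V)) : Finset (V ≃ₗ[F] V) :=
  haveI : Finite (V ≃ₗ[F] V) := DFunLike.finite _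
  (Set.toFinite (K : Set (V ≃ₗ[F] V))).toFinset

theorem mem_elems {K : Subgroup (V ≃ₗ[F] V)} {g : V ≃ₗ[F] V} : g ∈ elems K ↔ g ∈ K := by
  simp [elems]

theorem elems_card_pos (K : Subgroup (V ≃ₗ[F] V)) : 0 < (elems K).card :=
  Finset.card_pos.2 ⟨1, mem_elems.2 K.one_mem⟩

/-- The stabiliser of a subspace in a group. -/
noncomputable def stabIn (K : Subgroup (V ≃ₗ[F] V)) (W : Submodule F V) : Subgroup (V ≃ₗ[F] V) where
  carrier := {g | g ∈ K ∧ Fixes g W}
  mul_mem' ha hb := ⟨K.mul_mem ha.1 hb.1, ha.2.mul hb.2⟩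
  one_mem' := ⟨K.one_mem, Fixes.one W⟩
  inv_mem' ha := ⟨K.inv_mem ha.1, ha.2.symm⟩

theorem mem_stabIn {K : Subgroup (V ≃ₗ[F] V)} {W : Submodule F V} {g : V ≃ₗ[F] V} :
    g ∈ stabIn K W ↔ g ∈ K ∧ Fixes g W := Iff.rfl

theorem elems_stabIn (K : Subgroup (V ≃ₗ[F] V)) (W : Submodule F V) :
    elems (stabIn K W) = (elems K).filter (Fixes · W) := by
  ext g
  simp [mem_elems, mem_stabIn]

omit [Finite V] in
theorem map_mul_eq (g h : V ≃ₗ[F] V) (W : Submodule F V) :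
    W.map (g * h).toLinearMap = (W.map h.toLinearMap).map g.toLinearMap :=
  Submodule.map_comp h.toLinearMap g.toLinearMap W

theorem map_eq_iff_fixes {g : V ≃ₗ[F] V} {W : Submodule F V} : W.map g.toLinearMap = W ↔ Fixes g W := by
  refine ⟨fun h x hx => h.le ⟨x, hx, rfl⟩, fun h => le_antisymm ?_ fun x hx => ?_⟩
  · rintro _ ⟨x, hx, rfl⟩
    exact h x hx
  · exact ⟨_, h.symm x hx, g.apply_symm_apply x⟩

/-- Orbit and stabiliser for subspaces: the stabilisers along one orbit have total size the group order. -/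
theorem sum_card_stab (K : Subgroup (V ≃ₗ[F] V)) (S : Finset (Submodule F V)) {W₀ : Submodule F V}
    (hclosed : ∀ g ∈ K, W₀.map g.toLinearMap ∈ S)
    (htrans : ∀ W ∈ S, ∃ g ∈ K, W₀.map g.toLinearMap = W) :
    ∑ W ∈ S, (elems (stabIn K W)).card = (elems K).card := by
  rw [Finset.card_eq_sum_card_fiberwise (f := fun g : V ≃ₗ[F] V => W₀.map g.toLinearMap) (t := S)
    fun g hg => hclosed g (mem_elems.1 hg)]
  refine Finset.sum_congr rfl fun W hW => ?_
  obtain ⟨c, hc, hcW⟩ := htrans W hW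
  have hcW' : W.map (c⁻¹).toLinearMap = W₀ := by
    rw [← hcW, ← map_mul_eq, inv_mul_cancel]
    exact Submodule.map_id W₀
  refine Finset.card_bij (fun g _ => g * c) (fun g hg => ?_) (fun a _ b _ h => mul_right_cancel h)
    (fun g hg => ⟨g * c⁻¹, ?_, inv_mul_cancel_right g c⟩)
  · rw [mem_elems, mem_stabIn] at hg
    simp only [Finset.mem_filter, mem_elems]
    exact ⟨K.mul_mem hg.1 hc, by rw [map_mul_eq, hcW, map_eq_iff_fixes.2 hg.2]⟩
  · simp only [Finset.mem_filter, mem_elems] at hg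
    rw [mem_elems, mem_stabIn]
    exact ⟨K.mul_mem hg.1 (K.inv_mem hc), map_eq_iff_fixes.1 (by rw [map_mul_eq, hcW', hg.2])⟩

theorem exists_equiv_ext {M : Type*} [AddCommGroup M] [Module F M] [FiniteDimensional F M]
    {U U' : Submodule F M} (e₀ : U ≃ₗ[F] U') : ∃ e : M ≃ₗ[F] M, ∀ u : U, e u = e₀ u := by
  obtain ⟨R, hR⟩ := U.exists_isCompl
  obtain ⟨R', hR'⟩ := U'.exists_isCompl
  have hdim : finrank F R = finrank F R' := by
    have h1 := Submodule.finrank_add_eq_of_isCompl hR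
    have h2 := Submodule.finrank_add_eq_of_isCompl hR'
    have h3 := e₀.finrank_eq
    omega
  refine ⟨(U.prodEquivOfIsCompl R hR).symm.trans
    ((e₀.prodCongr (LinearEquiv.ofFinrankEq R R' hdim)).trans (U'.prodEquivOfIsCompl R' hR')), fun u => ?_⟩
  simp

/-- If a group induces all of `GL(T)` then the flag sum averages to one for a line and to zero otherwise. -/
theorem sum_mu (T : Submodule F V) (hT0 : T ≠ ⊥) (K : Subgroup (V ≃ₗ[F] V)) (hK : ∀ k ∈ K, Fixes k T)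
    (hGL : ∀ e : T ≃ₗ[F] T, ∃ k ∈ K, ∀ t : T, k t = e t) :
    ∑ g ∈ elems K, mu T g = if finrank F T = 1 then ((elems K).card : ℤ) else 0 := by
  induction hn : finrank F T using Nat.strong_induction_on generalizing T K with
  | _ n ih =>
  have swap : ∑ g ∈ elems K, mu T g =
      (elems K).card - ∑ U ∈ below T 1, ∑ g ∈ elems (stabIn K U), mu U g := by
    simp only [elems_stabIn]
    rw [Finset.sum_congr rfl fun g _ => mu_eq T g, Finset.sum_sub_distrib, Finset.sum_const, nsmul_one]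
    congr 1
    refine Finset.sum_comm' fun g U => ?_
    simp only [mem_below, Finset.mem_filter]
    exact ⟨fun h => ⟨⟨h.1, h.2.2.2⟩, h.2.1, h.2.2.1, Fixes.one U⟩,
      fun h => ⟨h.1.1, h.2.1, h.2.2.1, h.1.2⟩⟩
  have hinner : ∀ U ∈ below T 1, ∑ g ∈ elems (stabIn K U), mu U g =
      if finrank F U = 1 then ((elems (stabIn K U)).card : ℤ) else 0 := by
    intro U hU
    obtain ⟨hU0, hUT, -⟩ := mem_below.1 hU
    refine ih (finrank F U) (hn ▸ Submodule.finrank_lt_finrank_of_lt hUT) U hU0 (stabIn K U)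
      (fun k hk => hk.2) (fun e => ?_) rfl
    let ι := Submodule.comapSubtypeEquivOfLe hUT.le
    obtain ⟨E, hE⟩ := exists_equiv_ext (M := T) ((ι.trans e).trans ι.symm)
    obtain ⟨k, hk, hkE⟩ := hGL E
    have hku : ∀ u : U, k u = e u := fun u => by
      have h1 := hE ⟨⟨u, hUT.le u.2⟩, u.2⟩
      have h2 := hkE ⟨u, hUT.le u.2⟩
      rw [h2, h1]
      rfl
    exact ⟨k, ⟨hk, fun x hx => by rw [hku ⟨x, hx⟩]; exact Submodule.coe_mem _⟩, hku⟩
  rw [swap, Finset.sum_congr rfl hinner, ← Finset.sum_filter]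
  by_cases h1 : n = 1
  · rw [if_pos h1, Finset.filter_false_of_mem, Finset.sum_empty, sub_zero]
    intro U hU h
    have := Submodule.finrank_lt_finrank_of_lt (mem_below.1 hU).2.1
    omega
  rw [if_neg h1, sub_eq_zero, ← Nat.cast_sum]
  have hn1 : 1 < n := by
    have : n ≠ 0 := fun h0 => hT0 (Submodule.finrank_eq_zero.1 (hn.trans h0))
    omega
  obtain ⟨v, hv, hv0⟩ := T.exists_mem_ne_zero_of_ne_bot hT0
  have hmem : ∀ U : Submodule F V, U ≤ T → finrank F U = 1 →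
      U ∈ (below T 1).filter fun U : Submodule F V => finrank F U = 1 := by
    intro U hU h
    refine Finset.mem_filter.2 ⟨mem_below.2 ⟨fun h0 => ?_, lt_of_le_of_ne hU fun e => ?_, Fixes.one U⟩, h⟩
    · rw [h0, finrank_bot] at h; exact zero_ne_one h
    · rw [e] at h; omega
  have hl : finrank F (Submodule.span F {v}) = 1 := finrank_span_singleton hv0
  have hvT : Submodule.span F {v} ≤ T := by simpa using hv
  rw [sum_card_stab K _ (W₀ := Submodule.span F {v}) (fun g hg => hmem _ ?_ ?_) fun U hU => ?_]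
  · rintro _ ⟨x, hx, rfl⟩
    exact hK g hg x (hvT hx)
  · exact (LinearEquiv.finrank_map_eq g _).trans hl
  · obtain ⟨hU', hUfin⟩ := Finset.mem_filter.1 hU
    obtain ⟨hU0, hUT, -⟩ := mem_below.1 hU'
    let e₁ : Submodule.span F {v} ≃ₗ[F] U := LinearEquiv.ofFinrankEq _ _ (hl.trans hUfin.symm)
    let ι := Submodule.comapSubtypeEquivOfLe hvT
    let ι' := Submodule.comapSubtypeEquivOfLe hUT.le
    obtain ⟨E, hE⟩ := exists_equiv_ext (M := T) ((ι.trans e₁).trans ι'.symm)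
    obtain ⟨k, hk, hkE⟩ := hGL E
    have hku : ∀ u : Submodule.span F {v}, k u = e₁ u := fun u => by
      have h1 := hE ⟨⟨u, hvT u.2⟩, u.2⟩
      have h2 := hkE ⟨u, hvT u.2⟩
      rw [h2, h1]
      rfl
    refine ⟨k, hk, le_antisymm ?_ fun x hx => ?_⟩
    · rintro _ ⟨x, hx, rfl⟩
      exact (hku ⟨x, hx⟩).symm ▸ Submodule.coe_mem _
    · obtain ⟨u, hu⟩ := e₁.surjective ⟨x, hx⟩
      exact ⟨u, u.2, (hku u).trans (congrArg Subtype.val hu)⟩

namespace Polar

variable (P : Polar F V)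

/-- Totally singular subspaces of one dimension are conjugate, and their stabilisers induce the whole `GL`. -/
theorem exists_map {C U U' : Submodule F V} (hC : P.NonDeg C) (hU : U ≤ C) (hU' : U' ≤ C) (h : P.TS U)
    (h' : P.TS U') (e : U ≃ₗ[F] U') : ∃ g ∈ P.HC C, (∀ u : U, g u = e u) ∧ U.map g.toLinearMap = U' := by
  obtain ⟨ψ, hψ, -⟩ := exists_glue (inf_bot_eq (a := U)) (U'.subtype.comp e.toLinearMap) 0
  simp only [LinearMap.comp_apply, Submodule.subtype_apply, LinearEquiv.coe_coe] at hψ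
  obtain ⟨g, hg, hgψ⟩ := P.exists_isom hC hU bot_le h TS.bot ψ (by
      rw [sup_bot_eq]
      intro a ha b hb hab
      rw [hψ ⟨a, ha⟩, hψ ⟨b, hb⟩] at hab
      exact congrArg Subtype.val (e.injective (Subtype.ext hab)))
    (fun w hw => by rw [hψ ⟨w, hw⟩]; exact ⟨hU' (Submodule.coe_mem _), h'.1 _ (Submodule.coe_mem _)⟩)
    (fun t ht => by
      rw [(Submodule.mem_bot F).1 ht, map_zero]
      exact ⟨zero_mem _, P.sing_zero⟩)
    (fun x hx y hy => by
      rw [sup_bot_eq] at hx hy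
      rw [hψ ⟨x, hx⟩, hψ ⟨y, hy⟩, h'.2 (Submodule.coe_mem (e ⟨y, hy⟩)) _ (Submodule.coe_mem (e ⟨x, hx⟩)),
        h.2 hy x hx])
  have hge : ∀ u : U, g u = e u := fun u => (hgψ u (Submodule.mem_sup_left u.2)).trans (hψ u)
  refine ⟨g, hg, hge, le_antisymm ?_ fun x hx => ?_⟩
  · rintro _ ⟨u, hu, rfl⟩
    exact (hge ⟨u, hu⟩).symm ▸ Submodule.coe_mem _
  · obtain ⟨u, hu⟩ := e.surjective ⟨x, hx⟩
    exact ⟨u, u.2, (hge u).trans (congrArg Subtype.val hu)⟩

theorem mem_tsFix_map {C W : Submodule F V} (hC : P.NonDeg C) {g : V ≃ₗ[F] V} (hg : g ∈ P.HC C)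
    (hW : W ∈ P.tsFix C 1) : W.map g.toLinearMap ∈ P.tsFix C 1 := by
  obtain ⟨hW0, hWC, hWts, -⟩ := (P.mem_tsFix).1 hW
  refine (P.mem_tsFix).2 ⟨fun h => hW0 ?_, ?_, ⟨?_, ?_⟩, Fixes.one _⟩
  · simpa using h
  · rintro _ ⟨x, hx, rfl⟩
    exact P.HC_fixes hC hg x (hWC hx)
  · rintro _ ⟨x, hx, rfl⟩
    exact P.map_sing hg.1 (hWts.1 x hx)
  · rintro _ ⟨y, hy, rfl⟩ _ ⟨x, hx, rfl⟩
    exact (P.map_B hg.1 x y).trans (hWts.2 hy x hx)

/-- Points: one orbit, so their stabilisers have total size the group order. -/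
theorem sum_card_points {C : Submodule F V} (hC : P.NonDeg C) (hX : (P.tsFix C 1).Nonempty) :
    ∑ W ∈ (P.tsFix C 1).filter (fun W : Submodule F V => finrank F W = 1),
      (elems (stabIn (P.HC C) W)).card = (elems (P.HC C)).card := by
  obtain ⟨U, hU⟩ := hX
  obtain ⟨hU0, hUC, hUts, -⟩ := (P.mem_tsFix).1 hU
  obtain ⟨v, hv, hv0⟩ := U.exists_mem_ne_zero_of_ne_bot hU0
  have hl : finrank F (Submodule.span F {v}) = 1 := finrank_span_singleton hv0
  have hmem : Submodule.span F {v} ∈ P.tsFix C 1 :=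
    (P.mem_tsFix).2 ⟨by simpa using hv0, by simpa using hUC hv, TS.span (hUts.1 v hv), Fixes.one _⟩
  refine sum_card_stab _ _ (W₀ := Submodule.span F {v}) (fun g hg => ?_) fun W hW => ?_
  · exact Finset.mem_filter.2 ⟨P.mem_tsFix_map hC hg hmem, (LinearEquiv.finrank_map_eq g _).trans hl⟩
  · obtain ⟨hW, hW1⟩ := Finset.mem_filter.1 hW
    obtain ⟨-, hWC, hWts, -⟩ := (P.mem_tsFix).1 hW
    obtain ⟨g, hg, -, hgW⟩ := P.exists_map hC (by simpa using hUC hv) hWC (TS.span (hUts.1 v hv)) hWts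
      (LinearEquiv.ofFinrankEq _ _ (hl.trans hW1.symm))
    exact ⟨g, hg, hgW⟩

theorem mem_tsFix_iff {C W : Submodule F V} {g : V ≃ₗ[F] V} :
    W ∈ P.tsFix C g ↔ W ∈ P.tsFix C 1 ∧ Fixes g W := by
  simp only [mem_tsFix]
  exact ⟨fun h => ⟨⟨h.1, h.2.1, h.2.2.1, Fixes.one W⟩, h.2.2.2⟩, fun h => ⟨h.1.1, h.1.2.1, h.1.2.2.1, h.2⟩⟩

/-- Mean zero. -/
theorem sum_euler {C : Submodule F V} (hC : P.NonDeg C) (hX : (P.tsFix C 1).Nonempty) :
    ∑ g ∈ elems (P.HC C), P.euler C g = 0 := by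
  rw [Finset.sum_congr rfl fun g _ => P.euler_top C g, Finset.sum_sub_distrib, Finset.sum_const, nsmul_one,
    sub_eq_zero]
  rw [Finset.sum_comm' (s' := fun W => elems (stabIn (P.HC C) W)) (t' := P.tsFix C 1) fun g W => by
    rw [P.mem_tsFix_iff, mem_elems, mem_elems, mem_stabIn]; tauto]
  rw [Finset.sum_congr rfl fun W hW => sum_mu W ((P.mem_tsFix).1 hW).1 (stabIn (P.HC C) W)
    (fun k hk => hk.2) (fun e => ?_), ← Finset.sum_filter, ← Nat.cast_sum, P.sum_card_points hC hX]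
  obtain ⟨-, hWC, hWts, -⟩ := (P.mem_tsFix).1 hW
  obtain ⟨g, hg, hge, hgW⟩ := P.exists_map hC hWC hWC hWts hWts e
  exact ⟨g, ⟨hg, map_eq_iff_fixes.1 hgW⟩, hge⟩

variable {P} in
theorem Opp.sup_nonDeg {C W T : Submodule F V} (hC : P.NonDeg C) (h : P.Opp C W T) :
    P.NonDeg (W ⊔ T) := by
  obtain ⟨hC', he⟩ := h.residue_nonDeg hC
  refine ⟨disjoint_iff.2 (eq_bot_iff.2 fun v ⟨hv, hv'⟩ => ?_), codisjoint_iff.2 (eq_top_iff.2 ?_)⟩
  · obtain ⟨w, hw, t, ht, rfl⟩ := Submodule.mem_sup.1 hv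
    rw [P.perp_sup] at hv'
    have ht0 : t ∈ T ⊓ P.perp W := ⟨ht, by simpa using sub_mem hv'.1 (h.tsW.2 hw)⟩
    have hw0 : w ∈ W ⊓ P.perp T := ⟨hw, by simpa using sub_mem hv'.2 (h.tsT.2 ht)⟩
    rw [h.T_perp, Submodule.mem_bot] at ht0
    rw [h.W_perp, Submodule.mem_bot] at hw0
    simp [ht0, hw0]
  · rw [← hC'.sup_eq_top, he]
    refine sup_le (le_trans ?_ le_sup_right) (sup_le le_sup_left (le_trans ?_ le_sup_right))
    · rw [P.perp_sup]
      exact le_inf (inf_le_left.trans inf_le_right) inf_le_right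
    · exact P.perp_anti (sup_le h.leW h.leT)

/-- The contribution of one opposite pair. -/
theorem sum_pair {C W T : Submodule F V} (hC : P.NonDeg C) (h : P.Opp C W T) (hW0 : W ≠ ⊥)
    (hsq : ∑ g ∈ elems (P.HC (P.residue C W T)), P.euler (P.residue C W T) g ^ 2 =
      (elems (P.HC (P.residue C W T))).card) :
    ∑ g ∈ elems (stabIn (stabIn (P.HC C) W) T), mu T g * P.euler (P.residue C W T) g ^ 2 =
      if finrank F W = 1 then ((elems (stabIn (stabIn (P.HC C) W) T)).card : ℤ) else 0 := by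
  obtain ⟨hC', he⟩ := h.residue_nonDeg hC
  set C' := P.residue C W T with hC'def
  set L := stabIn (stabIn (P.HC C) W) T
  let A : Subgroup (V ≃ₗ[F] V) :=
    { carrier := {g | g ∈ L ∧ ∀ x ∈ C', g x = x}
      mul_mem' := fun {a b} ha hb => ⟨L.mul_mem ha.1 hb.1, fun x hx => by
        rw [LinearEquiv.mul_apply, hb.2 x hx, ha.2 x hx]⟩
      one_mem' := ⟨L.one_mem, fun _ _ => rfl⟩
      inv_mem' := fun {a} ha => ⟨L.inv_mem ha.1, fun x hx => by
        show a.symm x = x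
        rw [LinearEquiv.symm_apply_eq, ha.2 x hx]⟩ }
  have hWC' : W ≤ P.perp C' := he ▸ le_sup_left.trans le_sup_left
  have hTC' : T ≤ P.perp C' := he ▸ le_sup_right.trans le_sup_left
  have hsmall : ∀ b ∈ P.HC C', b ∈ L := fun b hb =>
    ⟨⟨P.HC_mono P.residue_le hb, Fixes.of_eq fun x hx => hb.2 x (hWC' hx)⟩,
      Fixes.of_eq fun x hx => hb.2 x (hTC' hx)⟩
  have hGL : ∀ e : T ≃ₗ[F] T, ∃ a ∈ A, ∀ t : T, a t = e t := by
    intro e
    obtain ⟨g, hg, hge, hgW⟩ := P.exists_pair_isom (h.sup_nonDeg hC) h h le_rfl le_rfl e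
    refine ⟨g, ⟨⟨⟨P.HC_mono (sup_le h.leW h.leT) hg, hgW⟩, fun x hx => ?_⟩, fun x hx => hg.2 x ?_⟩, hge⟩
    · rw [hge ⟨x, hx⟩]; exact Submodule.coe_mem _
    · rw [P.perp_sup]
      exact ⟨hx.1.2, hx.2⟩
  have hA' : ∀ a ∈ A, a ∈ L := fun a ha => ha.1
  have hfac : ∀ g ∈ L, ∃ a ∈ A, a⁻¹ * g ∈ P.HC C' := by
    intro g hg
    have hs : Function.Bijective (fun t : T => (⟨g t, hg.2 t t.2⟩ : T)) :=
      Finite.injective_iff_bijective.1 fun a b h' => Subtype.ext (g.injective (congrArg Subtype.val h'))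
    let e : T ≃ₗ[F] T := LinearEquiv.ofBijective
      { toFun := fun t : T => (⟨g t, hg.2 t t.2⟩ : T)
        map_add' := fun a b => Subtype.ext (map_add g (a : V) b)
        map_smul' := fun c a => Subtype.ext (map_smul g c (a : V)) } hs
    obtain ⟨a, ha, hae⟩ := hGL e
    have hb : a⁻¹ * g ∈ L := L.mul_mem (L.inv_mem ha.1) hg
    have hbT : ∀ t ∈ T, (a⁻¹ * g) t = t := fun t ht => by
      show a.symm (g t) = t
      rw [LinearEquiv.symm_apply_eq, hae ⟨t, ht⟩]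
      rfl
    refine ⟨a, ha, hb.1.1.1, fun x hx => ?_⟩
    rw [he] at hx
    obtain ⟨u, hu, d, hd, rfl⟩ := Submodule.mem_sup.1 hx
    obtain ⟨w, hw, t, ht, rfl⟩ := Submodule.mem_sup.1 hu
    have hwfix : (a⁻¹ * g) w = w := by
      have hmem : (a⁻¹ * g) w - w ∈ W ⊓ P.perp T := ⟨sub_mem (hb.1.2 w hw) hw, fun s hs => by
        rw [map_sub]
        nth_rw 1 [← hbT s hs]
        rw [P.map_B hb.1.1.1, sub_self]⟩
      rw [h.W_perp, Submodule.mem_bot, sub_eq_zero] at hmem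
      exact hmem
    rw [map_add, map_add, hwfix, hbT t ht, hb.1.1.2 d hd]
  have hinj : Set.InjOn (fun p : (V ≃ₗ[F] V) × (V ≃ₗ[F] V) => p.1 * p.2)
      ((elems A ×ˢ elems (P.HC C') : Finset _) : Set _) := by
    rintro ⟨a, b⟩ hab ⟨a', b'⟩ hab' heq
    simp only [Finset.coe_product, Set.mem_prod, Finset.mem_coe, mem_elems] at hab hab'
    have key : ∀ x, a (b x) = a' (b' x) := fun x => LinearEquiv.congr_fun heq x
    have hbb : b = b' := by
      ext x
      obtain ⟨c, hc, d, hd, rfl⟩ := Submodule.mem_sup.1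
        (hC'.sup_eq_top ▸ Submodule.mem_top : x ∈ C' ⊔ P.perp C')
      have h1 := key c
      rw [hab.1.2 _ (P.HC_fixes hC' hab.2 c hc), hab'.1.2 _ (P.HC_fixes hC' hab'.2 c hc)] at h1
      rw [map_add, map_add, h1, hab.2.2 d hd, hab'.2.2 d hd]
    subst hbb
    simp only [Prod.mk.injEq, and_true]
    exact mul_right_cancel heq
  have himage : elems L = (elems A ×ˢ elems (P.HC C')).image fun p => p.1 * p.2 := by
    ext g
    simp only [Finset.mem_image, Finset.mem_product, mem_elems]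
    refine ⟨fun hg => ?_, ?_⟩
    · obtain ⟨a, ha, hb⟩ := hfac g hg
      exact ⟨(a, a⁻¹ * g), ⟨ha, hb⟩, mul_inv_cancel_left a g⟩
    · rintro ⟨⟨a, b⟩, ⟨ha, hb⟩, rfl⟩
      exact L.mul_mem (hA' a ha) (hsmall b hb)
  rw [himage, Finset.sum_image hinj, Finset.card_image_of_injOn hinj, Finset.card_product]
  have hval : ∀ p ∈ elems A ×ˢ elems (P.HC C'),
      mu T (p.1 * p.2) * P.euler C' (p.1 * p.2) ^ 2 = mu T p.1 * P.euler C' p.2 ^ 2 := by
    rintro ⟨a, b⟩ hp
    simp only [Finset.mem_product, mem_elems] at hp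
    rw [mu_congr (h := a) (fun x hx => by rw [LinearEquiv.mul_apply, hp.2.2 x (hTC' hx)]),
      P.euler_congr (h := b) (fun x hx => by rw [LinearEquiv.mul_apply, hp.1.2 _ (P.HC_fixes hC' hp.2 x hx)])]
  have hT0 : T ≠ ⊥ := fun h0 => hW0 (by simpa [h0] using h.W_perp)
  rw [Finset.sum_congr rfl hval, Finset.sum_product]
  simp only []
  rw [← Finset.sum_mul_sum, hsq,
    sum_mu T hT0 A (fun a ha => ha.1.2) hGL, h.finrank_eq]
  split_ifs <;> simp

/-- Opposites of a given subspace: one orbit of its stabiliser. -/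
theorem sum_card_opp {C W : Submodule F V} (hC : P.NonDeg C) (hWC : W ≤ C) (hW : P.TS W) :
    ∑ T ∈ P.oppSet C W 1, (elems (stabIn (stabIn (P.HC C) W) T)).card =
      (elems (stabIn (P.HC C) W)).card := by
  obtain ⟨T₀, hT₀⟩ := P.exists_opp hC hWC hW
  refine sum_card_stab _ _ (W₀ := T₀) (fun g hg => ?_) fun T hT => ?_
  · have hWg := map_eq_iff_fixes.2 hg.2
    refine (P.mem_oppSet).2 ⟨⟨hW, ⟨?_, ?_⟩, hWC, ?_, ?_, ?_⟩, Fixes.one _⟩
    · rintro _ ⟨x, hx, rfl⟩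
      exact P.map_sing hg.1.1 (hT₀.tsT.1 x hx)
    · rintro _ ⟨y, hy, rfl⟩ _ ⟨x, hx, rfl⟩
      exact (P.map_B hg.1.1 x y).trans (hT₀.tsT.2 hy x hx)
    · rintro _ ⟨x, hx, rfl⟩
      exact P.HC_fixes hC hg.1 x (hT₀.leT hx)
    · refine eq_bot_iff.2 fun w hw => ?_
      obtain ⟨w₀, hw₀, rfl⟩ := hWg.ge hw.1
      have h0 : w₀ ∈ W ⊓ P.perp T₀ := ⟨hw₀, fun t ht => by
        rw [← P.map_B hg.1.1]; exact hw.2 _ ⟨t, ht, rfl⟩⟩
      rw [hT₀.W_perp, Submodule.mem_bot] at h0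
      simp [h0]
    · refine eq_bot_iff.2 fun v hv => ?_
      obtain ⟨t, ht, rfl⟩ := hv.1
      have h0 : t ∈ T₀ ⊓ P.perp W := ⟨ht, fun w hw => by
        rw [← P.map_B hg.1.1]; exact hv.2 _ (hg.2 w hw)⟩
      rw [hT₀.T_perp, Submodule.mem_bot] at h0
      simp [h0]
  · obtain ⟨hT, -⟩ := (P.mem_oppSet).1 hT
    let e : T₀ ≃ₗ[F] T := LinearEquiv.ofFinrankEq _ _ (hT₀.finrank_eq.symm.trans hT.finrank_eq)
    obtain ⟨g, hg, hge, hgW⟩ := P.exists_pair_isom hC hT₀ hT (sup_le hWC hT₀.leT) (sup_le hWC hT.leT) e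
    refine ⟨g, ⟨hg, hgW⟩, le_antisymm ?_ fun x hx => ?_⟩
    · rintro _ ⟨u, hu, rfl⟩
      exact (hge ⟨u, hu⟩).symm ▸ Submodule.coe_mem _
    · obtain ⟨u, hu⟩ := e.surjective ⟨x, hx⟩
      exact ⟨u, u.2, (hge u).trans (congrArg Subtype.val hu)⟩

/-- Mean square one. -/
theorem sum_euler_sq {C : Submodule F V} (hC : P.NonDeg C) :
    ∑ g ∈ elems (P.HC C), P.euler C g ^ 2 = (elems (P.HC C)).card := by
  induction hn : finrank F C using Nat.strong_induction_on generalizing C with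
  | _ n ih =>
  by_cases hX : (P.tsFix C 1).Nonempty
  swap
  · rw [Finset.sum_congr rfl (g := fun _ => (1 : ℤ)) fun g _ => ?_, Finset.sum_const, nsmul_one]
    rw [euler, show P.tsFix C g = ∅ from Finset.eq_empty_of_forall_notMem fun W hW =>
      hX ⟨W, ((P.mem_tsFix_iff).1 hW).1⟩, chainSum_empty, one_pow]
  have hmain : ∀ W ∈ P.tsFix C 1, ∑ g ∈ elems (stabIn (P.HC C) W),
      P.euler C g * chainSum ((P.tsFix C g).filter (W < ·)) =
      -(if finrank F W = 1 then ((elems (stabIn (P.HC C) W)).card : ℤ) else 0) := by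
    intro W hW
    obtain ⟨hW0, hWC, hWts, -⟩ := (P.mem_tsFix).1 hW
    have hstep : ∀ g ∈ elems (stabIn (P.HC C) W), P.euler C g * chainSum ((P.tsFix C g).filter (W < ·)) =
        -∑ T ∈ P.oppSet C W g, mu T g * P.euler (P.residue C W T) g ^ 2 := by
      intro g hg
      rw [mem_elems, mem_stabIn] at hg
      rw [P.euler_decomp hC hg.1 ((P.mem_tsFix_iff).2 ⟨hW, hg.2⟩), neg_mul, Finset.sum_mul]
      congr 1
      refine Finset.sum_congr rfl fun T hT => ?_
      obtain ⟨hT, hTg⟩ := (P.mem_oppSet).1 hT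
      rw [hT.link hC hg.1 hg.2 hTg, sq, mul_assoc]
    rw [Finset.sum_congr rfl hstep, Finset.sum_neg_distrib]
    congr 1
    rw [Finset.sum_comm' (s' := fun T => elems (stabIn (stabIn (P.HC C) W) T)) (t' := P.oppSet C W 1)
      fun g T => by
        simp only [mem_oppSet, mem_elems, mem_stabIn]
        exact ⟨fun h => ⟨⟨h.1, h.2.2⟩, h.2.1, Fixes.one T⟩, fun h => ⟨h.1.1, h.2.1, h.1.2⟩⟩]
    rw [Finset.sum_congr rfl fun T hT => P.sum_pair hC ((P.mem_oppSet).1 hT).1 hW0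
      (ih _ (hn ▸ Submodule.finrank_lt_finrank_of_lt (P.residue_lt hW0 ((P.mem_oppSet).1 hT).1))
        (((P.mem_oppSet).1 hT).1.residue_nonDeg hC).1 rfl)]
    split_ifs with h1
    · rw [← Nat.cast_sum, P.sum_card_opp hC hWC hWts]
    · exact Finset.sum_const_zero
  have hexp : ∀ g ∈ elems (P.HC C), P.euler C g ^ 2 = P.euler C g -
      ∑ W ∈ P.tsFix C g, P.euler C g * chainSum ((P.tsFix C g).filter (W < ·)) := by
    intro g _
    rw [sq]
    rw [← Finset.mul_sum]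
    have hb : P.euler C g = 1 - ∑ W ∈ P.tsFix C g, chainSum ((P.tsFix C g).filter (W < ·)) :=
      chainSum_bot _
    linear_combination P.euler C g * hb
  rw [Finset.sum_congr rfl hexp, Finset.sum_sub_distrib, P.sum_euler hC hX,
    Finset.sum_comm' (s' := fun W => elems (stabIn (P.HC C) W)) (t' := P.tsFix C 1) fun g W => by
      rw [P.mem_tsFix_iff, mem_elems, mem_elems, mem_stabIn]; tauto,
    Finset.sum_congr rfl hmain, Finset.sum_neg_distrib, ← Finset.sum_filter, ← Nat.cast_sum,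
    P.sum_card_points hC hX, zero_sub, neg_neg]

end Polar

end Cfsg.Agent.PolarSteinberg
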