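/-
The value at one: splitting off a hyperbolic pair multiplies it by the number of opposite points, a power of the
characteristic.
-/
import Cfsg.Agent.Lib.PolarSteinberg.Norm

set_option autoImplicit false
set_option linter.style.haveILetI false

namespace Cfsg.Agent.PolarSteinberg.Polar

open scoped Classical
open Module

variable {F V : Type*} [Field F] [AddCommGroup V] [Module F V] [Finite V] (P : Polar F V)

omit [Finite V] in
/-- A hyperbolic pair spans opposite points. -/
theorem opp_line {C : Submodule F V} {w y : V} (hw : w ∈ C) (hy : y ∈ C) (hws : P.Sing w) (hys : P.Sing y)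
    (hwy : P.B w y ≠ 0) : P.Opp C (Submodule.span F {w}) (Submodule.span F {y}) := by
  have hline : ∀ {a b : V}, P.B a b ≠ 0 → Submodule.span F {b} ⊓ P.perp (Submodule.span F {a}) = ⊥ := by
    intro a b hab
    refine eq_bot_iff.2 fun x ⟨hx, hx'⟩ => ?_
    obtain ⟨c, rfl⟩ := Submodule.mem_span_singleton.1 hx
    have := hx' a (Submodule.mem_span_singleton_self a)
    rw [map_smul, smul_eq_mul, mul_eq_zero] at this
    simp [this.resolve_right hab]
  exact ⟨TS.span hws, TS.span hys, by simpa using hw, by simpa using hy,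
    hline (fun e => hwy (P.comm e)), hline hwy⟩

theorem mu_line {T : Submodule F V} (hT : finrank F T = 1) (g : V ≃ₗ[F] V) : mu T g = 1 := by
  rw [mu, show below T g = ∅ from Finset.eq_empty_of_forall_notMem fun U hU => ?_, chainSum_empty]
  obtain ⟨hU0, hUT, -⟩ := mem_below.1 hU
  have := Submodule.finrank_lt_finrank_of_lt hUT
  exact hU0 (Submodule.finrank_eq_zero.1 (by omega))

/-- The points opposite a singular point. -/
theorem card_oppSet {C : Submodule F V} (hC : P.NonDeg C) {w y : V} (hw : w ∈ C) (hy : y ∈ C)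
    (hws : P.Sing w) (hys : P.Sing y) (hwy : P.B w y = 1) :
    (P.oppSet C (Submodule.span F {w}) 1).card =
      Nat.card P.A * Nat.card (P.residue C (Submodule.span F {w}) (Submodule.span F {y})) := by
  have hw0 : w ≠ 0 := fun h => by simp [h] at hwy
  have h1 := P.opp_line hw hy hws hys (by rw [hwy]; exact one_ne_zero)
  obtain ⟨hC', -⟩ := h1.residue_nonDeg hC
  set C' := P.residue C (Submodule.span F {w}) (Submodule.span F {y})
  have hwC' : ∀ c ∈ C', P.B w c = 0 := fun c hc => hc.1.2 w (Submodule.mem_span_singleton_self w)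
  have hα : ∀ c : C', ∃ a : F, P.Sing (y + c + a • w) := fun c =>
    P.partner hws (by rw [map_add, hwy, hwC' c c.2, add_zero])
  choose α hα using hα
  let pt : P.A × C' → V := fun p => y + p.2 + α p.2 • w + (p.1 : F) • w
  have hB : ∀ p, P.B w (pt p) = 1 := fun p => by
    simp [pt, hwy, hwC' _ p.2.2, P.sing_self hws]
  have hS : ∀ p, P.Sing (pt p) := fun p => by
    show P.Sing (y + p.2 + α p.2 • w + (p.1 : F) • w)
    exact (P.coset hws (hα p.2) (by simp [hwy, hwC' _ p.2.2, P.sing_self hws]) _).2 p.1.2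
  have hC'C : ∀ p, pt p ∈ C := fun p =>
    add_mem (add_mem (add_mem hy (P.residue_le p.2.2)) (C.smul_mem _ hw)) (C.smul_mem _ hw)
  have hopp : ∀ p, Submodule.span F {pt p} ∈ P.oppSet C (Submodule.span F {w}) 1 := fun p =>
    (P.mem_oppSet).2 ⟨P.opp_line hw (hC'C p) hws (hS p) (by rw [hB]; exact one_ne_zero), Fixes.one _⟩
  rw [← Nat.card_prod, ← Nat.card_eq_finsetCard]
  symm
  refine Nat.card_congr (Equiv.ofBijective (fun p => ⟨_, hopp p⟩) ⟨?_, ?_⟩)
  · intro p p' h
    have h' : pt p ∈ Submodule.span F {pt p'} := by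
      rw [← show Submodule.span F {pt p} = Submodule.span F {pt p'} from congrArg Subtype.val h]; exact Submodule.mem_span_singleton_self _
    obtain ⟨k, hk⟩ := Submodule.mem_span_singleton.1 h'
    have hk1 : k = 1 := by
      have := congrArg (P.B w) hk
      rwa [map_smul, hB, hB, smul_eq_mul, mul_one] at this
    rw [hk1, one_smul] at hk
    have hc : ((p'.2 : V) - p.2) ∈ Submodule.span F {w} ⊓ C' := by
      refine ⟨Submodule.mem_span_singleton.2 ⟨α p.2 + p.1 - (α p'.2 + p'.1), ?_⟩, sub_mem p'.2.2 p.2.2⟩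
      simp only [pt] at hk
      linear_combination (norm := module) -hk
    rw [h1.residue_inf hC, Submodule.mem_bot, sub_eq_zero] at hc
    have hc' : p'.2 = p.2 := Subtype.ext hc
    refine Prod.ext (Subtype.ext ?_) hc'.symm
    simp only [pt, hc'] at hk
    exact (smul_left_injective F hw0 (add_left_cancel hk)).symm
  · rintro ⟨T, hT⟩
    obtain ⟨hT, -⟩ := (P.mem_oppSet).1 hT
    have hTd : finrank F T = 1 := by rw [← hT.finrank_eq, finrank_span_singleton hw0]
    obtain ⟨t, ht, ht0⟩ := T.exists_mem_ne_zero_of_ne_bot (fun h => by rw [h, finrank_bot] at hTd; exact zero_ne_one hTd)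
    have hwt : P.B w t ≠ 0 := fun h0 => ht0 (by
      have : t ∈ T ⊓ P.perp (Submodule.span F {w}) := ⟨ht, fun x hx => by
        obtain ⟨a, rfl⟩ := Submodule.mem_span_singleton.1 hx
        simp [h0]⟩
      rwa [hT.T_perp, Submodule.mem_bot] at this)
    set u := (P.B w t)⁻¹ • t
    have hu : P.B w u = 1 := by simp [u, hwt]
    obtain ⟨a, ha, b, hb, c, hc, hsum⟩ := h1.exists_decomp (sub_mem (C.smul_mem (P.B w t)⁻¹ (hT.leT ht)) hy)
    obtain ⟨β, rfl⟩ := Submodule.mem_span_singleton.1 ha
    obtain ⟨δ, rfl⟩ := Submodule.mem_span_singleton.1 hb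
    have hδ : δ = 0 := by
      have := congrArg (P.B w) hsum
      simp only [map_sub, map_add, map_smul, hwy, hwC' c hc, P.sing_self hws, smul_eq_mul] at this
      simpa [u, hwt] using this.symm
    have huc : u = y + c + α ⟨c, hc⟩ • w + (β - α ⟨c, hc⟩) • w := by
      rw [hδ, zero_smul, add_zero] at hsum
      linear_combination (norm := module) hsum
    have hA : β - α ⟨c, hc⟩ ∈ P.A := by
      refine (P.coset hws (hα ⟨c, hc⟩) (by simp [hwy, hwC' c hc, P.sing_self hws]) _).1 ?_
      rw [← huc]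
      exact P.sing_smul _ (hT.tsT.1 t ht)
    refine ⟨(⟨_, hA⟩, ⟨c, hc⟩), Subtype.ext ?_⟩
    show Submodule.span F {y + c + α ⟨c, hc⟩ • w + (β - α ⟨c, hc⟩) • w} = T
    rw [← huc]
    refine Submodule.eq_of_le_of_finrank_eq (by simpa [u, hwt] using T.smul_mem _ ht) ?_
    rw [hTd, finrank_span_singleton (by simp [u, hwt, ht0])]

/-- One step of the value at one. -/
theorem natAbs_euler_step {C : Submodule F V} (hC : P.NonDeg C) {w y : V} (hw : w ∈ C) (hy : y ∈ C)
    (hws : P.Sing w) (hys : P.Sing y) (hwy : P.B w y = 1) :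
    (P.euler C 1).natAbs =
      Nat.card P.A * Nat.card (P.residue C (Submodule.span F {w}) (Submodule.span F {y})) *
        (P.euler (P.residue C (Submodule.span F {w}) (Submodule.span F {y})) 1).natAbs := by
  have hw0 : w ≠ 0 := fun h => by simp [h] at hwy
  have h1 := P.opp_line hw hy hws hys (by rw [hwy]; exact one_ne_zero)
  have hW : Submodule.span F {w} ∈ P.tsFix C 1 :=
    (P.mem_tsFix).2 ⟨by simpa using hw0, h1.leW, h1.tsW, Fixes.one _⟩
  rw [P.euler_decomp hC (P.HC C).one_mem hW, Finset.sum_congr rfl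
    (g := fun _ => P.euler (P.residue C (Submodule.span F {w}) (Submodule.span F {y})) 1) fun T hT => ?_,
    Finset.sum_const, nsmul_eq_mul, Int.natAbs_neg, Int.natAbs_mul, Int.natAbs_natCast,
    P.card_oppSet hC hw hy hws hys hwy]
  obtain ⟨hT, -⟩ := (P.mem_oppSet).1 hT
  rw [mu_line (hT.finrank_eq.symm.trans (finrank_span_singleton hw0)), one_mul,
    ← hT.link hC (P.HC C).one_mem (Fixes.one _) (Fixes.one _),
    ← h1.link hC (P.HC C).one_mem (Fixes.one _) (Fixes.one _)]

theorem euler_eq_one {C : Submodule F V} (g : V ≃ₗ[F] V) (h : ∀ v ∈ C, P.Sing v → v = 0) :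
    P.euler C g = 1 := by
  rw [euler, show P.tsFix C g = ∅ from Finset.eq_empty_of_forall_notMem fun U hU => ?_, chainSum_empty]
  obtain ⟨hU0, hUC, hUts, -⟩ := (P.mem_tsFix).1 hU
  exact hU0 ((Submodule.eq_bot_iff U).2 fun x hx => h x (hUC hx) (hUts.1 x hx))

/-- The value at one is a power of the characteristic up to sign. -/
theorem exists_natAbs_euler_eq_pow [Finite F] (p : ℕ) [hp : Fact p.Prime] [CharP F p] {C : Submodule F V}
    (hC : P.NonDeg C) : ∃ e, (P.euler C 1).natAbs = p ^ e := by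
  induction hn : finrank F C using Nat.strong_induction_on generalizing C with
  | _ n ih =>
  by_cases h : ∀ v ∈ C, P.Sing v → v = 0
  · exact ⟨0, by rw [P.euler_eq_one 1 h]; rfl⟩
  push Not at h
  obtain ⟨w, hw, hws, hw0⟩ := h
  obtain ⟨y, hy, hys, hwy⟩ := P.exists_partner hC hw hw0 hws
  have h1 := P.opp_line hw hy hws hys (by rw [hwy]; exact one_ne_zero)
  obtain ⟨hC', -⟩ := h1.residue_nonDeg hC
  have hlt := P.residue_lt (by simpa using hw0) h1
  obtain ⟨e, he⟩ := ih _ (hn ▸ Submodule.finrank_lt_finrank_of_lt hlt) hC' rfl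
  haveI := Fintype.ofFinite F
  obtain ⟨f, -, hf⟩ := FiniteField.card F p
  obtain ⟨a, -, ha⟩ := (Nat.dvd_prime_pow hp.out).1 (show Nat.card P.A ∣ p ^ (f : ℕ) by
    rw [← hf, ← Nat.card_eq_fintype_card]; exact AddSubgroup.card_addSubgroup_dvd_card _)
  refine ⟨a + f * finrank F (P.residue C (Submodule.span F {w}) (Submodule.span F {y})) + e, ?_⟩
  rw [P.natAbs_euler_step hC hw hy hws hys hwy, he, ha, Module.natCard_eq_pow_finrank (K := F),
    Nat.card_eq_fintype_card, hf, ← pow_mul, ← pow_add, ← pow_add]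

end Cfsg.Agent.PolarSteinberg.Polar
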