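/-
A character that is regular on a Sylow subgroup of a normal subgroup stays irreducible there.
-/
import Mathlib
import Cfsg.Agent.Lib.Char.Clifford

set_option autoImplicit false
set_option linter.style.haveILetI false

namespace Cfsg.Agent.PolarSteinberg

universe u

variable {G : Type u} [Group G]

/-- The sum over a subgroup. -/
noncomputable def sumOver {H : Type u} [Group H] [Fintype H] (P : Subgroup H) (η : H → ℂ) : ℂ :=
  ∑ x ∈ (Set.toFinite (P : Set H)).toFinset, η x

theorem exists_nat_sumOver {H : Type u} [Group H] [Fintype H] (P : Subgroup H) (η : IrrCharacter H) :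
    ∃ a : ℕ, sumOver P η.1 = (Nat.card P : ℂ) * a := by
  classical
  haveI := Fintype.ofFinite P
  obtain ⟨a, ha⟩ := Char.IsCharacter.exists_nat_classInner
    (Char.IsCharacter.restrict (Char.irr_isCharacter η) P) (Char.isCharacter_one (G := P))
  refine ⟨a, ?_⟩
  rw [← ha, classInner]
  simp only [map_one, mul_one]
  rw [← mul_assoc, mul_inv_cancel₀ (Nat.cast_ne_zero.2 Nat.card_pos.ne'), one_mul, sumOver]
  refine (Finset.sum_subtype _ (fun x => ?_) _).trans rfl
  rw [Set.Finite.mem_toFinset]; rfl

theorem isIrr_restrict_regular [Fintype G] {p : ℕ} [Fact p.Prime] (N : Subgroup G) [N.Normal] [Fintype N]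
    (χ : IrrCharacter G) (P : Sylow p N) (h1 : χ.1 1 = Nat.card P)
    (hvan : ∀ x : N, x ∈ P → x ≠ 1 → χ.1 x = 0) : IsIrrCharacter N (Char.resFun N χ.1) := by
  classical
  obtain ⟨θ, hθ⟩ := Char.exists_constituent N χ
  obtain ⟨e, he⟩ := Char.IsCharacter.exists_nat_classInner
    (Char.IsCharacter.restrict (Char.irr_isCharacter χ) N) (Char.irr_isCharacter θ)
  change classInner (Char.resFun N χ.1) θ.1 = (e : ℂ) at he
  obtain ⟨a, ha⟩ := exists_nat_sumOver (P : Subgroup N) θ
  have horb : ∀ η ∈ Char.orbitFinset N θ, sumOver (P : Subgroup N) η.1 = sumOver (P : Subgroup N) θ.1 := by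
    intro η hη
    obtain ⟨g, rfl⟩ := (Char.mem_orbitFinset N).1 hη
    let Q : Sylow p N := Sylow.ofCard ((P : Subgroup N).map (MulAut.conjNormal g : MulAut N).toMonoidHom) (by
      rw [Subgroup.card_map_of_injective (MulEquiv.injective _)]; exact P.card_eq_multiplicity)
    obtain ⟨n, hn⟩ := MulAction.exists_smul_eq N P Q
    have hQ : (Q : Subgroup N) = (P : Subgroup N).map (MulAut.conj n).toMonoidHom := by
      rw [← hn, Sylow.coe_subgroup_smul]; rfl
    simp only [sumOver, Char.conjChar_coe, Char.conjFun]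
    refine Finset.sum_bij (fun x _ => n⁻¹ * MulAut.conjNormal g x * n) ?_ ?_ ?_ ?_
    · intro x hx
      simp only [Set.Finite.mem_toFinset, SetLike.mem_coe] at hx ⊢
      have h : MulAut.conjNormal g x ∈ (Q : Subgroup N) := ⟨x, hx, rfl⟩
      rw [hQ] at h
      obtain ⟨y, hy, hyx⟩ := h
      rw [← hyx]
      simpa [mul_assoc, MulAut.conj_apply] using (show y ∈ (P : Subgroup N) from hy)
    · intro x _ y _ h
      exact (MulAut.conjNormal g).injective (by simpa using h)
    · intro y hy
      simp only [Set.Finite.mem_toFinset, SetLike.mem_coe] at hy ⊢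
      have h : MulAut.conj n y ∈ (Q : Subgroup N) := hQ ▸ ⟨y, hy, rfl⟩
      obtain ⟨x, hx, hxy⟩ := h
      refine ⟨x, hx, ?_⟩
      have hxy' : MulAut.conjNormal g x = n * y * n⁻¹ := hxy
      rw [hxy']; group
    · intro x _
      have h := Char.IsCharacter.isClassFunction (Char.irr_isCharacter θ) (MulAut.conjNormal g x) n⁻¹
      rw [inv_inv] at h
      exact h.symm
  have hres := Char.resFun_eq_smul_orbitSum N χ θ hθ
  have hval : sumOver (P : Subgroup N) (Char.resFun N χ.1) = (Nat.card P : ℂ) := by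
    rw [sumOver, Finset.sum_eq_single (1 : N)]
    · simp [h1]
    · intro x hx hx1
      exact hvan x (by simpa using hx) hx1
    · simp
  have hsum : sumOver (P : Subgroup N) (Char.resFun N χ.1) =
      (Nat.card P : ℂ) * ((e * ((Char.orbitFinset N θ).card * a) : ℕ) : ℂ) := by
    rw [hres, he, sumOver]
    simp only [Pi.smul_apply, smul_eq_mul, Char.orbitSum, Finset.sum_apply]
    rw [← Finset.mul_sum, Finset.sum_comm]
    simp only [sumOver] at horb ha
    rw [Finset.sum_congr rfl horb, Finset.sum_const, ha, nsmul_eq_mul]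
    push_cast
    ring
  rw [hval, left_eq_mul₀ (Nat.cast_ne_zero.2 Nat.card_pos.ne'), Nat.cast_eq_one] at hsum
  obtain ⟨c, hc⟩ : ∃ c, Char.orbitFinset N θ = {c} :=
    Finset.card_eq_one.1 (Nat.eq_one_of_mul_eq_one_right (Nat.eq_one_of_mul_eq_one_left hsum))
  rw [hres, he, Nat.eq_one_of_mul_eq_one_right hsum, Nat.cast_one, one_smul, Char.orbitSum, hc,
    Finset.sum_singleton]
  exact c.2

end Cfsg.Agent.PolarSteinberg
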