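/-
The chain sum as an irreducible character of the isometry group, and the Steinberg character of a projective
classical group obtained from it.
-/
import Cfsg.Agent.Lib.PolarSteinberg.Degree
import Cfsg.Agent.Lib.PolarSteinberg.Restrict
import Cfsg.Agent.Lib.Char.Generalized
import Cfsg.Agent.Lib.Char.PermChar
import Cfsg.Agent.Lib.Char.Descend

set_option autoImplicit false
set_option linter.style.haveILetI false

namespace Cfsg.Agent.PolarSteinberg.Polar

open scoped Classical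
open Module

universe u v w

variable {F : Type u} {V : Type v} [Field F] [AddCommGroup V] [Module F V] [Finite V] (P : Polar F V)

/-- The chains of `k` totally singular subspaces. -/
def ChainOf (k : ℕ) : Type v :=
  {C : Finset (Submodule F V) // C ⊆ P.tsFix ⊤ 1 ∧ IsChain (· ≤ ·) (C : Set (Submodule F V)) ∧ C.card = k}

instance (k : ℕ) : Finite (P.ChainOf k) := Subtype.finite

theorem chain_image (g : P.G) {k : ℕ} (C : P.ChainOf k) :
    C.1.image (fun W => W.map (g : V ≃ₗ[F] V).toLinearMap) ⊆ P.tsFix ⊤ 1 ∧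
    IsChain (· ≤ ·) (↑(C.1.image fun W => W.map (g : V ≃ₗ[F] V).toLinearMap) : Set (Submodule F V)) ∧
    (C.1.image fun W => W.map (g : V ≃ₗ[F] V).toLinearMap).card = k := by
  refine ⟨Finset.image_subset_iff.2 fun W hW => P.mem_tsFix_map P.nonDeg_top (by rw [P.HC_top]; exact g.2)
    (C.2.1 hW), fun u hu v hv huv => ?_, ?_⟩
  · obtain ⟨a, ha, rfl⟩ := Finset.mem_image.1 (Finset.mem_coe.1 hu)
    obtain ⟨b, hb, rfl⟩ := Finset.mem_image.1 (Finset.mem_coe.1 hv)
    exact (C.2.2.1 ha hb (fun e => huv (e ▸ rfl))).imp Submodule.map_mono Submodule.map_mono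
  · rw [Finset.card_image_of_injective _ (Submodule.map_injective_of_injective (g : V ≃ₗ[F] V).injective),
      C.2.2.2]

noncomputable instance chainAction (k : ℕ) : MulAction P.G (P.ChainOf k) where
  smul g C := ⟨_, P.chain_image g C⟩
  one_smul C := Subtype.ext (by
    show C.1.image (fun W => W.map ((1 : P.G) : V ≃ₗ[F] V).toLinearMap) = C.1
    conv_rhs => rw [← Finset.image_id (s := C.1)]
    exact Finset.image_congr fun W _ => Submodule.map_id W)
  mul_smul g h C := Subtype.ext (by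
    show C.1.image (fun W => W.map ((g * h : P.G) : V ≃ₗ[F] V).toLinearMap) =
      (C.1.image fun W => W.map (h : V ≃ₗ[F] V).toLinearMap).image fun W => W.map (g : V ≃ₗ[F] V).toLinearMap
    rw [Finset.image_image]
    exact Finset.image_congr fun W _ => map_mul_eq (g : V ≃ₗ[F] V) h W)

theorem mem_fixedBy_iff {k : ℕ} (g : P.G) (C : P.ChainOf k) :
    C ∈ MulAction.fixedBy (P.ChainOf k) g ↔ ∀ W ∈ C.1, Fixes (g : V ≃ₗ[F] V) W := by
  rw [MulAction.mem_fixedBy]
  constructor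
  · intro h W hW
    have hmem : W.map (g : V ≃ₗ[F] V).toLinearMap ∈ C.1 :=
      (congrArg Subtype.val h) ▸ Finset.mem_image_of_mem _ hW
    refine map_eq_iff_fixes.1 ?_
    by_contra hne
    have hfr := LinearEquiv.finrank_map_eq (g : V ≃ₗ[F] V) W
    rcases C.2.2.1 hmem hW hne with hle | hle
    · exact hne (Submodule.eq_of_le_of_finrank_eq hle hfr)
    · exact hne (Submodule.eq_of_le_of_finrank_eq hle hfr.symm).symm
  · intro h
    refine Subtype.ext ?_
    show C.1.image (fun W => W.map (g : V ≃ₗ[F] V).toLinearMap) = C.1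
    conv_rhs => rw [← Finset.image_id (s := C.1)]
    exact Finset.image_congr fun W hW => map_eq_iff_fixes.2 (h W hW)

/-- The chain sum as a function on the isometry group. -/
noncomputable def chi : P.G → ℂ := fun g => (P.euler ⊤ g : ℂ)

theorem chi_eq : P.chi = ∑ k ∈ Finset.range ((P.tsFix ⊤ 1).card + 1),
    (((-1 : ℤ) ^ k : ℤ) : ℂ) • fun g : P.G => (Nat.card (MulAction.fixedBy (P.ChainOf k) g) : ℂ) := by
  funext g
  simp only [chi, euler, chainSum, Finset.sum_apply, Pi.smul_apply, smul_eq_mul]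
  rw [← Finset.sum_fiberwise_of_maps_to (g := Finset.card) (t := Finset.range ((P.tsFix ⊤ 1).card + 1))
    fun C hC => Finset.mem_range.2 (Nat.lt_succ_of_le (Finset.card_le_card fun W hW =>
      ((P.mem_tsFix_iff).1 (Finset.mem_powerset.1 (Finset.mem_filter.1 hC).1 hW)).1))]
  push_cast
  refine Finset.sum_congr rfl fun k _ => ?_
  rw [Finset.sum_congr rfl (g := fun _ => (-1 : ℂ) ^ k) fun C hC => by rw [(Finset.mem_filter.1 hC).2],
    Finset.sum_const, nsmul_eq_mul, mul_comm]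
  congr 2
  rw [← Nat.card_eq_finsetCard]
  refine Nat.card_congr (Equiv.ofBijective (fun C => ⟨⟨C.1, ?_, ?_, ?_⟩, ?_⟩) ⟨?_, ?_⟩)
  · intro W hW
    exact ((P.mem_tsFix_iff).1 (Finset.mem_powerset.1 (Finset.mem_filter.1 (Finset.mem_filter.1 C.2).1).1 hW)).1
  · exact (Finset.mem_filter.1 (Finset.mem_filter.1 C.2).1).2
  · exact (Finset.mem_filter.1 C.2).2
  · exact (P.mem_fixedBy_iff g _).2 fun W hW =>
      ((P.mem_tsFix_iff).1 (Finset.mem_powerset.1 (Finset.mem_filter.1 (Finset.mem_filter.1 C.2).1).1 hW)).2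
  · exact fun a b h => Subtype.ext (congrArg (fun x => (Subtype.val x).1) h)
  · rintro ⟨C, hC⟩
    refine ⟨⟨C.1, Finset.mem_filter.2 ⟨Finset.mem_filter.2 ⟨Finset.mem_powerset.2 fun W hW => ?_, C.2.2.1⟩,
      C.2.2.2⟩⟩, rfl⟩
    exact (P.mem_tsFix_iff).2 ⟨C.2.1 hW, (P.mem_fixedBy_iff g C).1 hC W hW⟩

theorem isGeneralized_chi : IsGeneralizedCharacter P.G P.chi := by
  rw [chi_eq]
  exact Char.IsGeneralizedCharacter.sum _ fun k _ => Char.IsGeneralizedCharacter.intCast_smul
    (Char.IsCharacter.isGeneralized (Char.isCharacter_fixedBy _)) _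

theorem classInner_chi [Fintype P.G] : classInner P.chi P.chi = 1 := by
  have h := P.sum_euler_sq P.nonDeg_top
  rw [P.HC_top] at h
  have hsum : ∀ f : (V ≃ₗ[F] V) → ℤ, ∑ g ∈ elems P.G, f g = ∑ g : P.G, f g := fun f =>
    Finset.sum_subtype _ (fun g => mem_elems) f
  have hc : (elems P.G).card = Nat.card P.G := by
    rw [← Nat.card_eq_finsetCard]
    exact Nat.card_congr (Equiv.subtypeEquivRight fun g => mem_elems)
  rw [hsum, hc] at h
  rw [classInner]
  simp only [chi, map_intCast, ← sq]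
  rw [show ∑ g : P.G, ((P.euler ⊤ (g : V ≃ₗ[F] V) : ℤ) : ℂ) ^ 2 = (Nat.card P.G : ℂ) by exact_mod_cast h]
  exact inv_mul_cancel₀ (Nat.cast_ne_zero.2 Nat.card_pos.ne')

/-- The chain sum is up to sign an irreducible character. -/
theorem exists_irr : ∃ ψ : IrrCharacter P.G, ψ.1 1 = ((P.euler ⊤ 1).natAbs : ℂ) ∧
    (∀ g : P.G, P.euler ⊤ g = 0 → ψ.1 g = 0) ∧
    (∀ g : P.G, P.euler ⊤ g = P.euler ⊤ 1 → ψ.1 g = ψ.1 1) := by
  haveI : Finite (V ≃ₗ[F] V) := DFunLike.finite _
  haveI := Fintype.ofFinite P.G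
  obtain ⟨ψ, hψ⟩ := Char.IsGeneralizedCharacter.irr_or_neg_of_norm_one P.isGeneralized_chi P.classInner_chi
  obtain ⟨s, hs, hval⟩ : ∃ s : ℤ, s ≠ 0 ∧ ∀ g : P.G, ψ.1 g = ((s * P.euler ⊤ g : ℤ) : ℂ) ∧ s * s = 1 := by
    rcases hψ with h | h
    · exact ⟨1, one_ne_zero, fun g => ⟨by simp [← h, chi], rfl⟩⟩
    · exact ⟨-1, by norm_num, fun g => ⟨by
        have := congrFun h g
        simp [chi] at this
        simp [this], rfl⟩⟩
  refine ⟨ψ, ?_, fun g hg => by rw [(hval g).1, hg, mul_zero, Int.cast_zero],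
    fun g hg => by rw [(hval g).1, (hval 1).1, hg, OneMemClass.coe_one]⟩
  have h1 := (hval 1).1
  rw [Char.apply_one_eq_degree, ← Int.cast_natCast, Int.cast_inj, OneMemClass.coe_one] at h1
  rw [Char.apply_one_eq_degree, Nat.cast_inj]
  have h2 := congrArg Int.natAbs h1
  rwa [Int.natAbs_natCast, Int.natAbs_mul, show s.natAbs = 1 from
    Int.natAbs_of_isUnit (IsUnit.of_mul_eq_one s (hval 1).2), one_mul] at h2

/-- Elements fixing all singular lines have the value at one. -/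
theorem euler_eq_of_lines {g : V ≃ₗ[F] V} (h : ∀ v, P.Sing v → ∃ a : F, g v = a • v) :
    P.euler ⊤ g = P.euler ⊤ 1 := by
  unfold euler
  congr 1
  ext W
  rw [P.mem_tsFix_iff (g := g)]
  refine ⟨fun hW => hW.1, fun hW => ⟨hW, fun x hx => ?_⟩⟩
  obtain ⟨a, ha⟩ := h x (((P.mem_tsFix).1 hW).2.2.1.1 x hx)
  rw [ha]
  exact W.smul_mem a hx

section Vanish

variable [Finite F] {p : ℕ} [hp : Fact p.Prime] [CharP F p]

/-- An element of order `p` fixes a non-zero vector in every invariant non-zero subspace. -/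
theorem exists_fixed {z : V ≃ₗ[F] V} (hz : z ^ p = 1) {U : Submodule F V} (hU : Fixes z U) (hU0 : U ≠ ⊥) :
    ∃ x ∈ U, x ≠ 0 ∧ z x = x := by
  have hUpow : ∀ k ∈ Subgroup.zpowers z, Fixes k U := fun k hk => by
    obtain ⟨n, rfl⟩ := Subgroup.mem_zpowers_iff.1 hk
    have hle : Subgroup.zpowers z ≤ stabIn ⊤ U := Subgroup.zpowers_le.2 ⟨trivial, hU⟩
    exact (hle hk).2
  letI : MulAction (Subgroup.zpowers z) U :=
    { smul := fun k x => ⟨(k : V ≃ₗ[F] V) x, hUpow k k.2 x x.2⟩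
      one_smul := fun x => Subtype.ext rfl
      mul_smul := fun a b x => Subtype.ext rfl }
  haveI : Finite (V ≃ₗ[F] V) := DFunLike.finite _
  have hP : IsPGroup p (Subgroup.zpowers z) := fun k => ⟨1, by
    obtain ⟨n, hn⟩ := Subgroup.mem_zpowers_iff.1 k.2
    refine Subtype.ext ?_
    rw [pow_one, Subgroup.coe_pow, Subgroup.coe_one, ← hn, ← zpow_natCast, ← zpow_mul, mul_comm,
      zpow_mul, zpow_natCast, hz, one_zpow]⟩
  have hdvd : p ∣ Nat.card U := by
    haveI := Fintype.ofFinite F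
    obtain ⟨f, -, hf⟩ := FiniteField.card F p
    rw [Module.natCard_eq_pow_finrank (K := F), Nat.card_eq_fintype_card, hf, ← pow_mul]
    exact dvd_pow_self p (Nat.mul_ne_zero f.2.ne' fun h => hU0 (Submodule.finrank_eq_zero.1 h))
  have hmod := hP.card_modEq_card_fixedPoints U
  have h0 : (0 : U) ∈ MulAction.fixedPoints (Subgroup.zpowers z) U := fun k => Subtype.ext (map_zero _)
  obtain ⟨x, hx, hne⟩ : ∃ x, x ∈ MulAction.fixedPoints (Subgroup.zpowers z) U ∧ x ≠ 0 := by
    by_contra hcon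
    push Not at hcon
    have : MulAction.fixedPoints (Subgroup.zpowers z) U = {0} := Set.eq_singleton_iff_unique_mem.2 ⟨h0, hcon⟩
    rw [this, Nat.card_eq_fintype_card (α := ({0} : Set U)), Fintype.card_unique] at hmod
    exact hp.out.one_lt.ne' (Nat.dvd_one.1 (Nat.modEq_zero_iff_dvd.1 (hmod.symm.trans
      (Nat.modEq_zero_iff_dvd.2 hdvd))))
  exact ⟨x, x.2, fun h => hne (Subtype.ext h),
    congrArg Subtype.val (hx ⟨z, Subgroup.mem_zpowers z⟩)⟩

/-- An element of order `p` has a non-zero fixed vector orthogonal to all its fixed vectors. -/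
theorem exists_radical {z : V ≃ₗ[F] V} (hz : z ∈ P.G) (ho : orderOf z = p) :
    ∃ v, v ≠ 0 ∧ z v = v ∧ (∀ x, z x = x → P.B x v = 0) ∧ ∃ y, v = z y - y := by
  let R : Submodule F V := LinearMap.range (z.toLinearMap - LinearMap.id)
  have hR : Fixes z R := by
    rintro _ ⟨y, rfl⟩
    exact ⟨z y, by simp [map_sub]⟩
  have hR0 : R ≠ ⊥ := fun h => by
    have hz1 : z = 1 := LinearEquiv.ext fun y => by
      have : z y - y ∈ R := ⟨y, rfl⟩
      rw [h, Submodule.mem_bot, sub_eq_zero] at this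
      exact this
    rw [hz1, orderOf_one] at ho
    exact hp.out.one_lt.ne ho
  obtain ⟨v, hv, hv0, hzv⟩ := exists_fixed (by rw [← ho]; exact pow_orderOf_eq_one z) hR hR0
  obtain ⟨y, rfl⟩ := hv
  refine ⟨_, hv0, hzv, fun x hx => ?_, y, rfl⟩
  show P.B x (z y - y) = 0
  rw [map_sub]
  nth_rw 1 [← hx]
  rw [P.map_B hz, sub_self]

/-- The chain sum vanishes at elements whose order is divisible by `p`. -/
theorem euler_eq_zero_of_dvd {g : V ≃ₗ[F] V} (hg : g ∈ P.G) (hd : p ∣ orderOf g)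
    (hsing : ∀ k : ℕ, orderOf (g ^ k) = p → ∃ v, v ≠ 0 ∧ (g ^ k) v = v ∧ P.Sing v ∧
      ∀ x, (g ^ k) x = x → P.B x v = 0) : P.euler ⊤ g = 0 := by
  haveI : Finite (V ≃ₗ[F] V) := DFunLike.finite _
  have ho : orderOf (g ^ (orderOf g / p)) = p := orderOf_pow_orderOf_div (orderOf_pos g).ne' hd
  refine P.euler_eq_zero hg ((Commute.refl g).pow_right (orderOf g / p)) (fun U hU => ?_)
    (fun U hU hU0 => exists_fixed (p := p) (by
      conv_lhs => arg 2; rw [← ho]
      exact pow_orderOf_eq_one _) hU hU0) (hsing _ ho)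
  exact ((stabIn ⊤ U).pow_mem (⟨trivial, hU⟩ : g ∈ stabIn ⊤ U) _).2

/-- The Steinberg character of the quotient by the centre of a group of isometries. -/
theorem exists_quotient_character {N : Type w} [Group N] [Finite N] (j : N →* (V ≃ₗ[F] V))
    (hj : Function.Injective j) (hjG : j.range ≤ P.G) (hnorm : (j.range.subgroupOf P.G).Normal)
    (hsing : ∀ z : N, orderOf z = p → ∃ v, v ≠ 0 ∧ j z v = v ∧ P.Sing v ∧ ∀ x, j z x = x → P.B x v = 0)
    (hdeg : (P.euler ⊤ 1).natAbs = p ^ (Nat.card N).factorization p)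
    (hcen : ∀ z ∈ Subgroup.center N, ∀ v, P.Sing v → ∃ a : F, j z v = a • v) :
    ∃ χ : N ⧸ Subgroup.center N → ℂ, IsIrrCharacter (N ⧸ Subgroup.center N) χ ∧
      ∀ S : Sylow p (N ⧸ Subgroup.center N), χ 1 = Nat.card S ∧
        ∀ x : N ⧸ Subgroup.center N, x ∈ S → x ≠ 1 → χ x = 0 := by
  haveI : Finite (V ≃ₗ[F] V) := DFunLike.finite _
  haveI := Fintype.ofFinite P.G
  obtain ⟨ψ, hψ1, hψ0, hψc⟩ := P.exists_irr
  set M : Subgroup P.G := j.range.subgroupOf P.G
  haveI : M.Normal := hnorm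
  haveI := Fintype.ofFinite M
  let e : N ≃* M := (MonoidHom.ofInjective hj).trans (Subgroup.subgroupOfEquivOfLe hjG).symm
  have he : ∀ n : N, (((e n : M) : P.G) : V ≃ₗ[F] V) = j n := fun n => rfl
  have hvanN : ∀ n : N, p ∣ orderOf n → ψ.1 (e n : P.G) = 0 := by
    intro n hn
    refine hψ0 _ ?_
    rw [he]
    refine P.euler_eq_zero_of_dvd (hjG ⟨n, rfl⟩) (by rwa [orderOf_injective j hj]) fun k hk => ?_
    rw [← map_pow] at hk ⊢
    exact hsing _ (by rwa [orderOf_injective j hj] at hk)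
  have hdvd : ∀ {H : Type w} [Group H] (x : H) (S : Subgroup H), IsPGroup p S → x ∈ S → x ≠ 1 →
      p ∣ orderOf x := by
    intro H _ x S hS hx hx1
    obtain ⟨j', hj'⟩ := hS ⟨_, hx⟩
    obtain ⟨i, -, hi⟩ := (Nat.dvd_prime_pow hp.out).1 (orderOf_dvd_of_pow_eq_one (congrArg Subtype.val hj'))
    rcases Nat.eq_zero_or_pos i with rfl | hi0
    · exact absurd (orderOf_eq_one_iff.1 (by simpa using hi)) hx1
    · exact hi ▸ dvd_pow_self p hi0.ne'
  obtain ⟨S₀⟩ := (inferInstance : Nonempty (Sylow p M))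
  have hcard : Nat.card M = Nat.card N := (Nat.card_congr e.toEquiv).symm
  have hirr := isIrr_restrict_regular M ψ S₀ (by rw [hψ1, hdeg, S₀.card_eq_multiplicity, hcard])
    (fun x hx hx1 => by
      obtain ⟨n, rfl⟩ := e.surjective x
      refine hvanN n ?_
      obtain ⟨j', hj'⟩ := S₀.2 ⟨_, hx⟩
      obtain ⟨i, -, hi⟩ := (Nat.dvd_prime_pow hp.out).1
        (orderOf_dvd_of_pow_eq_one (congrArg Subtype.val hj'))
      rw [show orderOf n = orderOf (e n) from (e.orderOf_eq n).symm]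
      rcases Nat.eq_zero_or_pos i with rfl | hi0
      · exact absurd (orderOf_eq_one_iff.1 (by simpa using hi)) hx1
      · exact hi ▸ dvd_pow_self p hi0.ne')
  let φ : IrrCharacter N := ⟨_, Char.IsIrrCharacter.comp_surjective hirr e.toMonoidHom e.surjective⟩
  have hφ : ∀ n, φ.1 n = ψ.1 (e n : P.G) := fun n => rfl
  have hφ1 : φ.1 1 = (p ^ (Nat.card N).factorization p : ℕ) := by
    rw [hφ, map_one, Subgroup.coe_one, hψ1, hdeg]
  have hφc : ∀ z ∈ Subgroup.center N, φ.1 z = φ.1 1 := fun z hz => by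
    rw [hφ, hφ, map_one, Subgroup.coe_one]
    exact hψc _ (by rw [he]; exact P.euler_eq_of_lines (hcen z hz))
  obtain ⟨χ, hχ⟩ := Char.exists_descend (Subgroup.center N) φ hφc
  have hcop : ¬ p ∣ Nat.card (Subgroup.center N) := by
    intro hd
    obtain ⟨z, hz⟩ := exists_prime_orderOf_dvd_card' p hd
    have h0 := hvanN (z : N) (by rw [Subgroup.orderOf_coe, hz])
    rw [← hφ, hφc _ z.2, hφ1, Nat.cast_eq_zero] at h0
    exact pow_ne_zero _ hp.out.ne_zero h0
  refine ⟨χ.1, χ.2, fun S => ⟨?_, fun x hx hx1 => ?_⟩⟩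
  · have h1 := hχ 1
    rw [QuotientGroup.mk_one] at h1
    rw [h1, hφ1, Sylow.card_eq_multiplicity,
      Subgroup.card_eq_card_quotient_mul_card_subgroup (Subgroup.center N),
      Nat.factorization_mul Nat.card_pos.ne' Nat.card_pos.ne', Finsupp.add_apply,
      Nat.factorization_eq_zero_of_not_dvd hcop, add_zero]
  · obtain ⟨n, rfl⟩ := QuotientGroup.mk_surjective x
    rw [hχ n, hφ]
    exact hvanN n ((hdvd _ S S.2 hx hx1).trans (orderOf_map_dvd (QuotientGroup.mk' (Subgroup.center N)) n))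

end Vanish

end Cfsg.Agent.PolarSteinberg.Polar
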