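/-
Transport and products of characters that are regular on a Sylow subgroup, and the trivial quotient.
-/
import Mathlib
import Cfsg.Agent.Lib.Char.Product

set_option autoImplicit false
set_option linter.style.haveILetI false

namespace Cfsg.Agent.PolarSteinberg

universe u w

/-- An irreducible character regular on every Sylow `p`-subgroup. -/
def HasSt (p : ℕ) (G : Type u) [Group G] : Prop :=
  ∃ χ : G → ℂ, IsIrrCharacter G χ ∧ ∀ S : Sylow p G, χ 1 = Nat.card S ∧ ∀ x : G, x ∈ S → x ≠ 1 → χ x = 0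

variable {p : ℕ} [hp : Fact p.Prime] {G : Type u} [Group G] [Finite G] {H : Type w} [Group H]

omit hp in
theorem mem_sylow_of_pow [Finite H] {x : H} {S : Sylow p H} (hx : x ∈ S) : ∃ k, x ^ p ^ k = 1 := by
  obtain ⟨k, hk⟩ := S.2 ⟨x, hx⟩
  exact ⟨k, congrArg Subtype.val hk⟩

omit hp [Finite G] in
theorem exists_sylow_mem {x : G} {k : ℕ} (hx : x ^ p ^ k = 1) : ∃ S : Sylow p G, x ∈ S := by
  have hP : IsPGroup p (Subgroup.zpowers x) := fun y => ⟨k, by
    obtain ⟨n, hn⟩ := Subgroup.mem_zpowers_iff.1 y.2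
    refine Subtype.ext ?_
    rw [Subgroup.coe_pow, Subgroup.coe_one, ← hn, ← zpow_natCast, ← zpow_mul, mul_comm, zpow_mul,
      zpow_natCast, hx, one_zpow]⟩
  obtain ⟨S, hS⟩ := hP.exists_le_sylow
  exact ⟨S, hS (Subgroup.mem_zpowers x)⟩

theorem HasSt.of_equiv (h : HasSt p G) (e : H ≃* G) : HasSt p H := by
  haveI : Finite H := Finite.of_equiv G e.symm.toEquiv
  obtain ⟨χ, hχ, hS⟩ := h
  refine ⟨fun y => χ (e y), Char.IsIrrCharacter.comp_mulEquiv hχ e, fun S => ⟨?_, fun x hx hx1 => ?_⟩⟩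
  · obtain ⟨T⟩ := (inferInstance : Nonempty (Sylow p G))
    show χ (e 1) = _
    rw [map_one, (hS T).1, S.card_eq_multiplicity, T.card_eq_multiplicity, Nat.card_congr e.toEquiv]
  · obtain ⟨k, hk⟩ := mem_sylow_of_pow hx
    obtain ⟨T, hT⟩ := exists_sylow_mem (x := e x) (k := k) (by rw [← map_pow, hk, map_one])
    exact (hS T).2 _ hT fun h1 => hx1 (e.injective (h1.trans (map_one e).symm))

theorem HasSt.prod [Finite H] (h : HasSt p G) (h' : HasSt p H) : HasSt p (G × H) := by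
  obtain ⟨χ, hχ, hS⟩ := h
  obtain ⟨ψ, hψ, hT⟩ := h'
  refine ⟨_, Char.isIrrCharacter_prod_mul hχ hψ, fun U => ⟨?_, fun x hx hx1 => ?_⟩⟩
  · obtain ⟨S⟩ := (inferInstance : Nonempty (Sylow p G))
    obtain ⟨T⟩ := (inferInstance : Nonempty (Sylow p H))
    rw [show ((1 : G × H).1) = 1 from rfl, show ((1 : G × H).2) = 1 from rfl, (hS S).1, (hT T).1,
      U.card_eq_multiplicity, S.card_eq_multiplicity, T.card_eq_multiplicity, Nat.card_prod,
      Nat.factorization_mul Nat.card_pos.ne' Nat.card_pos.ne', Finsupp.add_apply, pow_add, Nat.cast_mul]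
  · obtain ⟨k, hk⟩ := mem_sylow_of_pow hx
    by_cases h1 : x.1 = 1
    · obtain ⟨T, hT'⟩ := exists_sylow_mem (x := x.2) (k := k) (congrArg Prod.snd hk)
      rw [(hT T).2 _ hT' fun h2 => hx1 (Prod.ext h1 h2), mul_zero]
    · obtain ⟨S, hS'⟩ := exists_sylow_mem (x := x.1) (k := k) (congrArg Prod.fst hk)
      rw [(hS S).2 _ hS' h1, zero_mul]

omit hp [Finite G] in
/-- The quotient of a commutative group by its centre is trivial. -/
theorem hasSt_of_comm (hcomm : ∀ a b : G, a * b = b * a) : HasSt p (G ⧸ Subgroup.center G) := by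
  haveI hsub : Subsingleton (G ⧸ Subgroup.center G) := ⟨fun a b => by
    obtain ⟨a, rfl⟩ := QuotientGroup.mk_surjective a
    obtain ⟨b, rfl⟩ := QuotientGroup.mk_surjective b
    refine QuotientGroup.eq.2 (Subgroup.mem_center_iff.2 fun g => hcomm g _)⟩
  refine ⟨fun _ => 1, Char.isIrrCharacter_one, fun S => ⟨?_, fun x _ hx => absurd (Subsingleton.elim x 1) hx⟩⟩
  haveI : Subsingleton S := ⟨fun a b => Subtype.ext (Subsingleton.elim _ _)⟩
  rw [show Nat.card S = 1 from Nat.card_eq_one_iff_unique.2 ⟨inferInstance, ⟨1⟩⟩, Nat.cast_one]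

end Cfsg.Agent.PolarSteinberg
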