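/-
The commutator subgroup of a dihedral group is commutative.
-/
import Mathlib
import Cfsg.Agent.Lib.PolarSteinberg.Small

set_option autoImplicit false

namespace Cfsg.Agent.PolarSteinberg

theorem commutator_comm_of_dihedral {G : Type*} [Group G] {n : ℕ} (e : G ≃* DihedralGroup n)
    (a b : commutator G) : a * b = b * a := by
  let f : DihedralGroup n →* Multiplicative (ZMod 2) :=
    { toFun := fun x => match x with
        | .r _ => 1
        | .sr _ => Multiplicative.ofAdd 1
      map_one' := rfl
      map_mul' := by
        rintro (i | i) (j | j)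
        · rfl
        · exact (one_mul _).symm
        · exact (mul_one _).symm
        · exact (show Multiplicative.ofAdd (1 : ZMod 2) * Multiplicative.ofAdd 1 = 1 by decide).symm }
  have hker : ∀ x ∈ commutator G, f (e x) = 1 := fun x hx =>
    Abelianization.commutator_subset_ker (f.comp e.toMonoidHom) hx
  have hrot : ∀ x ∈ commutator G, ∃ i, e x = DihedralGroup.r i := by
    intro x hx
    have h := hker x hx
    rcases hex : e x with i | i
    · exact ⟨i, rfl⟩
    · rw [hex] at h
      exact absurd h (by show Multiplicative.ofAdd (1 : ZMod 2) ≠ 1; decide)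
  obtain ⟨i, hi⟩ := hrot a a.2
  obtain ⟨j, hj⟩ := hrot b b.2
  refine Subtype.ext (e.injective ?_)
  rw [Subgroup.coe_mul, Subgroup.coe_mul, map_mul, map_mul, hi, hj, DihedralGroup.r_mul_r,
    DihedralGroup.r_mul_r, add_comm]

end Cfsg.Agent.PolarSteinberg
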