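/-
Hermitian-type and quadratic polar spaces, the exact value at one, and the degree criterion.
-/
import Cfsg.Agent.Lib.PolarSteinberg.Character
import Cfsg.Agent.Lib.Forms.Witt

set_option autoImplicit false
set_option linter.style.haveILetI false

namespace Cfsg.Agent.PolarSteinberg

open scoped Classical
open Module

universe u v w

variable {F : Type u} {V : Type v} [Field F] [AddCommGroup V] [Module F V]

/-- The polar space of a trace-valued epsilon-hermitian form. -/
noncomputable def hermPolar [Finite V] {σ : F →+* F} {ε : F} {B : V →ₛₗ[σ] V →ₗ[F] F}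
    (hB : Forms.IsHermitianPolar σ ε B) : Polar F V where
  σ := σ
  ε := ε
  B := B
  Sing v := B v v = 0
  G := Forms.isom F (Forms.form2 B)
  A :=
    { carrier := {a | σ a + ε * a = 0}
      add_mem' := fun {a b} ha hb => by
        show σ (a + b) + ε * (a + b) = 0
        rw [map_add, mul_add, add_add_add_comm, show σ a + ε * a = 0 from ha,
          show σ b + ε * b = 0 from hb, add_zero]
      zero_mem' := by show σ 0 + ε * 0 = 0; rw [map_zero, mul_zero, add_zero]
      neg_mem' := fun {a} ha => by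
        show σ (-a) + ε * (-a) = 0
        rw [map_neg, mul_neg, ← neg_add, show σ a + ε * a = 0 from ha, neg_zero] }
  eps_ne := left_ne_zero_of_mul_eq_one hB.eps
  swap := hB.swap
  sep := hB.sep
  sing_zero := by simp
  sing_smul a v hv := by simp [hv]
  sing_self h := h
  sing_add {u v} hu hv huv := by simp [hu, hv, huv, hB.eq_zero_comm huv]
  partner {w y} hw hwy := by
    obtain ⟨τ, hτ⟩ := hB.trace y
    refine ⟨-σ τ, ?_⟩
    have hyw : B y w = ε := by rw [hB.swap w y, hwy, map_one, mul_one]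
    simp only [map_add, map_smul, map_smulₛₗ, map_neg, LinearMap.add_apply, LinearMap.smul_apply,
      LinearMap.neg_apply, smul_eq_mul, neg_smul, hB.invol, hw, hwy, hyw, hτ]
    ring
  coset {w y} hw hy hwy a := by
    have hyw : B y w = ε := by rw [hB.swap w y, hwy, map_one, mul_one]
    simp only [map_add, map_smul, map_smulₛₗ, LinearMap.add_apply, LinearMap.smul_apply, smul_eq_mul,
      hw, hy, hwy, hyw, mul_zero, add_zero, zero_add, mul_one]
    show σ a + a * ε = 0 ↔ σ a + ε * a = 0
    rw [mul_comm a]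
  map_B hg x y := hg x y
  map_sing hg v hv := (hg v v).trans hv
  witt X φ hinj hφ _ := by
    obtain ⟨g, hg, hgx⟩ := Forms.witt_hermitian hB X (φ.comp X.subtype)
      (fun a b h => Subtype.ext (hinj a.2 b.2 h)) (fun a b => hφ a a.2 b b.2)
    exact ⟨g, hg, fun x hx => hgx ⟨x, hx⟩⟩

/-- The polar space of a quadratic form with non-degenerate polar form. -/
noncomputable def quadPolar [Finite V] {Q : QuadraticForm F V}
    (hQ : (QuadraticMap.polarBilin Q).Nondegenerate) : Polar F V where
  σ := RingHom.id F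
  ε := 1
  B := QuadraticMap.polarBilin Q
  Sing v := Q v = 0
  G := Forms.isomQ Q
  A := ⊥
  eps_ne := one_ne_zero
  swap x y := by rw [one_mul, RingHom.id_apply, Forms.polarBilin_swap]
  sep x h := hQ.1 x h
  sing_zero := QuadraticMap.map_zero Q
  sing_smul a v hv := by rw [QuadraticMap.map_smul, hv, smul_zero]
  sing_self h := by rw [Forms.polarBilin_self, h, mul_zero]
  sing_add {u v} hu hv huv := by rw [Forms.quadratic_map_add, hu, hv, huv, add_zero, add_zero]
  partner {w y} hw hwy := by
    refine ⟨-Q y, ?_⟩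
    rw [Forms.quadratic_map_add, QuadraticMap.map_smul, map_smul, Forms.polarBilin_swap, hwy, hw, smul_eq_mul,
      smul_eq_mul]
    ring
  coset {w y} hw hy hwy a := by
    rw [Forms.quadratic_map_add, QuadraticMap.map_smul, map_smul, Forms.polarBilin_swap, hwy, hw, hy,
      smul_eq_mul, smul_eq_mul, AddSubgroup.mem_bot]
    simp
  map_B hg x y := Forms.polar_map_of_mem_isomQ hg x y
  map_sing {g} hg v hv := (hg v v).trans hv
  witt X φ hinj hφ hspan := by
    have key : ∀ x ∈ Submodule.span F {x | x ∈ X ∧ (φ x = x ∨ Q x = 0 ∧ Q (φ x) = 0)},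
        x ∈ X ∧ Q (φ x) = Q x := by
      intro x hx
      induction hx using Submodule.span_induction with
      | mem y hy =>
        refine ⟨hy.1, ?_⟩
        rcases hy.2 with h | h
        · rw [h]
        · rw [h.1, h.2]
      | zero => simp
      | add a b _ _ ha hb =>
        refine ⟨add_mem ha.1 hb.1, ?_⟩
        rw [map_add, Forms.quadratic_map_add, Forms.quadratic_map_add, ha.2, hb.2, hφ a ha.1 b hb.1]
      | smul c a _ ha =>
        exact ⟨X.smul_mem c ha.1, by rw [map_smul, QuadraticMap.map_smul, QuadraticMap.map_smul, ha.2]⟩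
    obtain ⟨g, hg, hgx⟩ := Forms.witt_quadratic hQ X (φ.comp X.subtype)
      (fun a b h => Subtype.ext (hinj a.2 b.2 h)) (fun a => (key a (hspan a.2)).2)
    exact ⟨g, hg, fun x hx => hgx ⟨x, hx⟩⟩

namespace Polar

variable [Finite V] (P : Polar F V)

/-- The value at one through a maximal totally singular subspace. -/
theorem natAbs_euler_maximal [Finite F] {C W : Submodule F V} (hC : P.NonDeg C) (hWC : W ≤ C)
    (hW : P.TS W) (hmax : ∀ v ∈ C, P.Sing v → v ∈ P.perp W → v ∈ W) :
    (P.euler C 1).natAbs = Nat.card P.A ^ finrank F W *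
      Nat.card F ^ (finrank F W * (finrank F C - finrank F W - 1)) ∧ 2 * finrank F W ≤ finrank F C := by
  induction hn : finrank F W generalizing C W with
  | zero =>
    have hW0 : W = ⊥ := Submodule.finrank_eq_zero.1 hn
    refine ⟨?_, Nat.zero_le _⟩
    rw [P.euler_eq_one 1 fun v hv hs => (Submodule.mem_bot F).1 (hW0 ▸ hmax v hv hs (by simp [hW0]))]
    simp
  | succ r ih =>
    obtain ⟨w, hw, hw0⟩ := W.exists_mem_ne_zero_of_ne_bot (fun h => by
      rw [h, finrank_bot] at hn; exact Nat.succ_ne_zero r hn.symm)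
    obtain ⟨y, hy, hys, hwy⟩ := P.exists_partner hC (hWC hw) hw0 (hW.1 w hw)
    have h1 := P.opp_line (hWC hw) hy (hW.1 w hw) hys (by rw [hwy]; exact one_ne_zero)
    obtain ⟨hC', hperp⟩ := h1.residue_nonDeg hC
    set C' := P.residue C (Submodule.span F {w}) (Submodule.span F {y})
    have hsup := h1.sup_inf_residue (by simpa using hw) hWC hW
    have hwW : finrank F (Submodule.span F {w}) = 1 := finrank_span_singleton hw0
    have hinf : Submodule.span F {w} ⊓ (W ⊓ C') = ⊥ := eq_bot_iff.2 fun x hx =>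
      (h1.residue_inf hC).le ⟨hx.1, hx.2.2⟩
    have hr : finrank F (W ⊓ C' : Submodule F V) = r := by
      have h2 := Submodule.finrank_sup_add_finrank_inf_eq (Submodule.span F {w}) (W ⊓ C')
      rw [← hsup, hinf, finrank_bot, hwW, hn] at h2
      omega
    have hmax' : ∀ v ∈ C', P.Sing v → v ∈ P.perp (W ⊓ C') → v ∈ W ⊓ C' := fun v hv hs hp =>
      ⟨hmax v (P.residue_le hv) hs (by rw [hsup, P.perp_sup]; exact ⟨hv.1.2, hp⟩), hv⟩
    obtain ⟨hval, hle⟩ := ih hC' inf_le_right (hW.mono inf_le_left) hmax' hr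
    have hd : finrank F C' + 2 = finrank F C := by
      have e1 := Submodule.finrank_add_eq_of_isCompl hC
      have e2 := Submodule.finrank_add_eq_of_isCompl hC'
      have e3 := Submodule.finrank_sup_add_finrank_inf_eq (Submodule.span F {w}) (Submodule.span F {y})
      have e4 := Submodule.finrank_sup_add_finrank_inf_eq
        (Submodule.span F {w} ⊔ Submodule.span F {y}) (P.perp C)
      rw [h1.inf_eq_bot, finrank_bot, hwW, ← h1.finrank_eq, hwW] at e3
      rw [show (Submodule.span F {w} ⊔ Submodule.span F {y}) ⊓ P.perp C = ⊥ from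
        eq_bot_iff.2 fun x hx => hC.disjoint.le_bot ⟨sup_le h1.leW h1.leT hx.1, hx.2⟩, finrank_bot,
        ← hperp] at e4
      omega
    refine ⟨?_, by omega⟩
    rw [P.natAbs_euler_step hC (hWC hw) hy (hW.1 w hw) hys hwy, hval,
      Module.natCard_eq_pow_finrank (K := F) (V := C'), pow_succ]
    rcases Nat.eq_zero_or_pos r with rfl | hr0
    · rw [show finrank F C - (0 + 1) - 1 = finrank F C' by omega]
      simp
    · obtain ⟨k, hk⟩ : ∃ k, finrank F C' = r + 1 + k := ⟨finrank F C' - r - 1, by omega⟩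
      rw [show finrank F C - (r + 1) - 1 = k + 1 by omega, show finrank F C' - r - 1 = k by omega, hk]
      ring

/-- A multiple of the Sylow order. -/
theorem pow_dvd_natAbs_euler [Finite F] {p : ℕ} [hp : Fact p.Prime] [CharP F p] {N : Type w} [Group N]
    [Finite N] (j : N →* (V ≃ₗ[F] V)) (hj : Function.Injective j) (hjG : j.range ≤ P.G)
    (hsing : ∀ z : N, orderOf z = p → ∃ v, v ≠ 0 ∧ j z v = v ∧ P.Sing v ∧ ∀ x, j z x = x → P.B x v = 0) :
    p ^ (Nat.card N).factorization p ∣ (P.euler ⊤ 1).natAbs := by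
  haveI : Finite (V ≃ₗ[F] V) := DFunLike.finite _
  haveI := Fintype.ofFinite P.G
  haveI := Fintype.ofFinite N
  obtain ⟨ψ, hψ1, hψ0, -⟩ := P.exists_irr
  let k : N →* P.G := j.codRestrict P.G fun n => hjG ⟨n, rfl⟩
  have hk : ∀ n, ((k n : P.G) : V ≃ₗ[F] V) = j n := fun n => rfl
  obtain ⟨S⟩ := (inferInstance : Nonempty (Sylow p N))
  haveI := Fintype.ofFinite (S : Subgroup N)
  obtain ⟨a, ha⟩ := Char.IsCharacter.exists_nat_classInner
    (Char.IsCharacter.comp (Char.irr_isCharacter ψ) (k.comp (S : Subgroup N).subtype))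
    (Char.isCharacter_one (G := (S : Subgroup N)))
  rw [classInner, Finset.sum_eq_single (1 : (S : Subgroup N))] at ha
  · simp only [map_one, mul_one] at ha
    rw [hψ1, inv_mul_eq_iff_eq_mul₀ (Nat.cast_ne_zero.2 Nat.card_pos.ne'), ← Nat.cast_mul, Nat.cast_inj] at ha
    exact ⟨a, by rw [ha, S.card_eq_multiplicity]⟩
  · intro x _ hx1
    rw [map_one, mul_one]
    refine hψ0 _ ?_
    show P.euler ⊤ (j (x : N)) = 0
    have hd : p ∣ orderOf (x : N) := by
      obtain ⟨j', hj'⟩ := S.2 x
      obtain ⟨i, -, hi⟩ := (Nat.dvd_prime_pow hp.out).1 (orderOf_dvd_of_pow_eq_one (congrArg Subtype.val hj'))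
      rcases Nat.eq_zero_or_pos i with rfl | hi0
      · exact absurd (Subtype.ext (orderOf_eq_one_iff.1 (by simpa using hi))) hx1
      · exact hi ▸ dvd_pow_self p hi0.ne'
    refine P.euler_eq_zero_of_dvd (p := p) (hjG ⟨_, rfl⟩) (by rwa [orderOf_injective j hj]) fun e he => ?_
    rw [← map_pow] at he ⊢
    exact hsing _ (by rwa [orderOf_injective j hj] at he)
  · simp

/-- Index prime to `p`: the value at one is the order of a Sylow subgroup. -/
theorem natAbs_euler_eq [Finite F] {p : ℕ} [hp : Fact p.Prime] [CharP F p] {N : Type w} [Group N]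
    [Finite N] (j : N →* (V ≃ₗ[F] V)) (hj : Function.Injective j) (hjG : j.range ≤ P.G)
    (hsing : ∀ z : N, orderOf z = p → ∃ v, v ≠ 0 ∧ j z v = v ∧ P.Sing v ∧ ∀ x, j z x = x → P.B x v = 0)
    (hidx : ¬ p ∣ (j.range.subgroupOf P.G).index) :
    (P.euler ⊤ 1).natAbs = p ^ (Nat.card N).factorization p := by
  haveI : Finite (V ≃ₗ[F] V) := DFunLike.finite _
  obtain ⟨ψ, hψ1, -, -⟩ := P.exists_irr
  obtain ⟨e, he⟩ := P.exists_natAbs_euler_eq_pow p P.nonDeg_top
  have hfac : (Nat.card P.G).factorization p = (Nat.card N).factorization p := by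
    rw [← Subgroup.card_mul_index (j.range.subgroupOf P.G),
      Nat.factorization_mul Nat.card_pos.ne' Subgroup.index_ne_zero_of_finite, Finsupp.add_apply,
      Nat.factorization_eq_zero_of_not_dvd hidx, add_zero, Nat.card_congr
      ((Subgroup.subgroupOfEquivOfLe hjG).trans (MonoidHom.ofInjective hj).symm).toEquiv]
  refine Nat.dvd_antisymm ?_ (P.pow_dvd_natAbs_euler j hj hjG hsing)
  rw [he, ← hfac]
  refine Nat.pow_dvd_pow p ((hp.out.pow_dvd_iff_le_factorization Nat.card_pos.ne').1 ?_)
  rw [← he]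
  have h := Char.charDegree_dvd_card ψ
  obtain ⟨n, hn, hval⟩ : ∃ n, n ∣ Nat.card P.G ∧ ψ.1 1 = (n : ℂ) :=
    ⟨_, h, by rw [Char.apply_one_eq_degree, Char.charDegree_eq_degree]⟩
  rw [hψ1, Nat.cast_inj] at hval
  rwa [hval]

end Polar

end Cfsg.Agent.PolarSteinberg
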