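/-
The Steinberg character of a projective Omega group in dimension at least five.
-/
import Cfsg.Agent.Lib.PolarSteinberg.Instances
import Cfsg.Agent.Lib.PolarSteinberg.Small
import Cfsg.Agent.Lib.Forms.OmegaOrder
import Cfsg.Agent.Lib.ClassicalSimple.DicksonRank

set_option autoImplicit false
set_option linter.style.haveILetI false

namespace Cfsg.Agent.PolarSteinberg

open scoped Classical
open Module

variable {F : Type*} [Field F] [Fintype F] {ι : Type} [Fintype ι] [DecidableEq ι]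
  (Q : QuadraticForm F (ι → F))

/-- `Omega` inside the linear automorphisms. -/
noncomputable def omegaEmb : Omega F ⇑Q →* ((ι → F) ≃ₗ[F] (ι → F)) :=
  (Forms.isomQ Q).subtype.comp ((Forms.isometryGroupEquiv ⇑Q).toMonoidHom.comp (Omega F ⇑Q).subtype)

theorem omegaEmb_apply (g : Omega F ⇑Q) (v : ι → F) :
    omegaEmb Q g v = ((g.1 : Matrix.GeneralLinearGroup ι F) : Matrix ι ι F).mulVec v := rfl

theorem omegaEmb_injective : Function.Injective (omegaEmb Q) :=
  Subtype.val_injective.comp ((Forms.isometryGroupEquiv ⇑Q).injective.comp Subtype.val_injective)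

theorem omegaEmb_range : (omegaEmb Q).range ≤ Forms.isomQ Q := by
  rintro _ ⟨g, rfl⟩
  exact (Forms.isometryGroupEquiv ⇑Q g.1).2

theorem omegaEmb_subgroupOf : (omegaEmb Q).range.subgroupOf (Forms.isomQ Q) =
    (Omega F ⇑Q).map (Forms.isometryGroupEquiv ⇑Q).toMonoidHom := by
  ext x
  rw [Subgroup.mem_subgroupOf]
  constructor
  · rintro ⟨g, hg⟩
    exact ⟨g.1, g.2, Subtype.ext hg⟩
  · rintro ⟨g, hg, rfl⟩
    exact ⟨⟨g, hg⟩, rfl⟩

theorem omegaEmb_normal : ((omegaEmb Q).range.subgroupOf (Forms.isomQ Q)).Normal := by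
  rw [omegaEmb_subgroupOf]
  exact Subgroup.Normal.map inferInstance _ (Forms.isometryGroupEquiv ⇑Q).surjective

theorem omegaEmb_index :
    ((omegaEmb Q).range.subgroupOf (Forms.isomQ Q)).index = (Omega F ⇑Q).index := by
  rw [omegaEmb_subgroupOf]
  exact Subgroup.index_map_equiv _ (Forms.isometryGroupEquiv ⇑Q)

variable (hQ : (QuadraticMap.polarBilin Q).Nondegenerate) (p : ℕ) [hp : Fact p.Prime] [CharP F p]

include hQ in
theorem omega_exists_singular (h5 : 5 ≤ Fintype.card ι) (z : Omega F ⇑Q) (hz : orderOf z = p) :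
    ∃ v, v ≠ 0 ∧ omegaEmb Q z v = v ∧ (quadPolar hQ).Sing v ∧
      ∀ x, omegaEmb Q z x = x → (quadPolar hQ).B x v = 0 := by
  have hzG : omegaEmb Q z ∈ (quadPolar hQ).G := omegaEmb_range Q ⟨z, rfl⟩
  have ho : orderOf (omegaEmb Q z) = p := by rw [orderOf_injective _ (omegaEmb_injective Q), hz]
  by_cases h2 : (2 : F) = 0
  swap
  · obtain ⟨v, hv0, hzv, hperp, -⟩ := (quadPolar hQ).exists_radical (p := p) hzG ho
    refine ⟨v, hv0, hzv, ?_, hperp⟩
    have h := hperp v hzv
    change QuadraticMap.polarBilin Q v v = 0 at h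
    rw [Forms.polarBilin_self] at h
    exact (mul_eq_zero.1 h).resolve_left h2
  have hp2 : p = 2 := by
    have h : p ∣ 2 := (CharP.cast_eq_zero_iff F p 2).1 (by exact_mod_cast h2)
    exact (Nat.prime_dvd_prime_iff_eq hp.out Nat.prime_two).1 h
  subst hp2
  set f := omegaEmb Q z with hf
  let R : Submodule F (ι → F) := LinearMap.range (f.toLinearMap - LinearMap.id)
  have hff : ∀ y, f (f y) = y := fun y => by
    have h := pow_orderOf_eq_one f
    rw [ho, sq] at h
    exact LinearEquiv.congr_fun h y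
  have hfix : ∀ r ∈ R, f r = r := by
    rintro _ ⟨y, rfl⟩
    show f (f y - y) = f y - y
    rw [map_sub, hff, ← sub_eq_zero]
    have : (2 : F) • (y - f y) = 0 := by rw [h2, zero_smul]
    rw [← this]
    module
  have hperp : ∀ r ∈ R, ∀ x, f x = x → QuadraticMap.polarBilin Q x r = 0 := by
    rintro _ ⟨y, rfl⟩ x hx
    show QuadraticMap.polarBilin Q x (f y - y) = 0
    rw [map_sub]
    nth_rw 1 [← hx]
    rw [show QuadraticMap.polarBilin Q (f x) (f y) = QuadraticMap.polarBilin Q x y from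
      Forms.polar_map_of_mem_isomQ hzG x y, sub_self]
  have heven : Even (finrank F R) := by
    have h := (ClassicalSimple.mem_omega_iff_even_rank Q hQ (Or.inr (by omega)) z.1).1 z.2
    have e : (((z.1 : Matrix.GeneralLinearGroup ι F) : Matrix ι ι F) - 1).mulVecLin =
        f.toLinearMap - LinearMap.id := LinearMap.ext fun x => by
      rw [Matrix.mulVecLin_apply, Matrix.sub_mulVec, Matrix.one_mulVec]
      rfl
    rwa [Matrix.rank, e] at h
  have hR0 : R ≠ ⊥ := fun h => by
    have hf1 : f = 1 := LinearEquiv.ext fun y => by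
      have : f y - y ∈ R := ⟨y, rfl⟩
      rw [h, Submodule.mem_bot, sub_eq_zero] at this
      exact this
    rw [hf1, orderOf_one] at ho
    exact absurd ho (by norm_num)
  obtain ⟨r₁, hr₁, hr₁0⟩ := R.exists_mem_ne_zero_of_ne_bot hR0
  by_cases hQ1 : Q r₁ = 0
  · exact ⟨r₁, hr₁0, hfix _ hr₁, hQ1, fun x hx => hperp _ hr₁ x hx⟩
  obtain ⟨r₂, hr₂, hr₂'⟩ : ∃ r₂ ∈ R, r₂ ∉ Submodule.span F {r₁} := by
    by_contra hcon
    push Not at hcon
    have hle := Submodule.finrank_mono (R := F) (show R ≤ Submodule.span F {r₁} from hcon)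
    rw [finrank_span_singleton hr₁0] at hle
    obtain ⟨k, hk⟩ := heven
    have : finrank F R ≠ 0 := fun h => hR0 (Submodule.finrank_eq_zero.1 h)
    omega
  haveI : CharP F 2 := ‹CharP F 2›
  obtain ⟨a, ha⟩ := FiniteField.isSquare_of_char_two (CharP.eq F (ringChar.charP F) inferInstance)
    (Q r₂ / Q r₁)
  refine ⟨r₂ + a • r₁, fun h => hr₂' ?_, hfix _ (add_mem hr₂ (R.smul_mem a hr₁)), ?_,
    fun x hx => hperp _ (add_mem hr₂ (R.smul_mem a hr₁)) x hx⟩
  · exact Submodule.mem_span_singleton.2 ⟨-a, by rw [neg_smul]; exact (eq_neg_of_add_eq_zero_left h).symm⟩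
  · show Q (r₂ + a • r₁) = 0
    rw [Forms.quadratic_map_add, QuadraticMap.map_smul, map_smul, hperp _ hr₁ _ (hfix _ hr₂), smul_eq_mul,
      smul_eq_mul, mul_zero, add_zero, ← ha, div_mul_cancel₀ _ hQ1]
    linear_combination Q r₂ * h2

include hQ in
/-- The Steinberg character of `POmega` from its degree. -/
theorem hasSt_pomega (h5 : 5 ≤ Fintype.card ι)
    (hdeg : ((quadPolar hQ).euler ⊤ 1).natAbs = p ^ (Nat.card (Omega F ⇑Q)).factorization p) :
    HasSt p (POmega F ⇑Q) := by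
  refine (quadPolar hQ).exists_quotient_character (omegaEmb Q) (omegaEmb_injective Q) (omegaEmb_range Q)
    (omegaEmb_normal Q) (omega_exists_singular Q hQ p h5) hdeg fun z hz v _ => ?_
  obtain ⟨a, -, ha⟩ := Forms.omega_center_matrix Q hQ h5 z hz
  exact ⟨a, by rw [omegaEmb_apply, ha, Matrix.smul_mulVec, Matrix.one_mulVec]⟩

include hQ in
theorem hasSt_pomega_odd (h5 : 5 ≤ Fintype.card ι) (h2 : (2 : F) ≠ 0) : HasSt p (POmega F ⇑Q) := by
  refine hasSt_pomega Q hQ p h5 ((quadPolar hQ).natAbs_euler_eq (omegaEmb Q) (omegaEmb_injective Q)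
    (omegaEmb_range Q) (omega_exists_singular Q hQ p h5) ?_)
  change ¬ p ∣ ((omegaEmb Q).range.subgroupOf (Forms.isomQ Q)).index
  rw [omegaEmb_index, Forms.omega_index_odd Q h2 hQ (by omega)]
  intro hd
  have : p ∣ 2 := hp.out.dvd_of_dvd_pow (show p ∣ 2 ^ 2 by simpa using hd)
  obtain rfl := (Nat.prime_dvd_prime_iff_eq hp.out Nat.prime_two).1 this
  exact h2 (by exact_mod_cast CharP.cast_eq_zero F 2)

include hQ in
/-- Characteristic two: the order of the orthogonal group gives the degree. -/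
theorem hasSt_pomega_two (h5 : 5 ≤ Fintype.card ι) (h2 : (2 : F) = 0) (W : Submodule F (ι → F))
    (hW : ∀ v ∈ W, Q v = 0) (hmax : ∀ v, Q v = 0 → (∀ w ∈ W, QuadraticMap.polarBilin Q w v = 0) → v ∈ W)
    (c : ℕ) (hc : ¬ p ∣ c)
    (hcard : Nat.card (Forms.isomQ Q) =
      2 * Fintype.card F ^ (finrank F W * (Fintype.card ι - finrank F W - 1)) * c) :
    HasSt p (POmega F ⇑Q) := by
  have hp2 : p = 2 := by
    have h : p ∣ 2 := (CharP.cast_eq_zero_iff F p 2).1 (by exact_mod_cast h2)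
    exact (Nat.prime_dvd_prime_iff_eq hp.out Nat.prime_two).1 h
  subst hp2
  refine hasSt_pomega Q hQ 2 h5 ?_
  have hTS : (quadPolar hQ).TS W := ⟨hW, fun v hv w hw => by
    have h := hW (w + v) (add_mem hw hv)
    rw [Forms.quadratic_map_add, hW w hw, hW v hv, zero_add, zero_add] at h
    exact h⟩
  rw [((quadPolar hQ).natAbs_euler_maximal (quadPolar hQ).nonDeg_top le_top hTS
    fun v _ hv hp => hmax v hv hp).1, finrank_top, Module.finrank_fintype_fun_eq_card,
    show Nat.card (quadPolar hQ).A = 1 from AddSubgroup.card_bot, one_pow, one_mul, Nat.card_eq_fintype_card]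
  have hom : Nat.card (Omega F ⇑Q) =
      Fintype.card F ^ (finrank F W * (Fintype.card ι - finrank F W - 1)) * c := by
    refine Nat.eq_of_mul_eq_mul_right (show 0 < (Omega F ⇑Q).index from Nat.pos_of_ne_zero
      Subgroup.index_ne_zero_of_finite) ?_
    rw [Subgroup.card_mul_index, Forms.omega_index_even Q hQ (by omega) (Or.inr (by omega)),
      Nat.card_congr (Forms.isometryGroupEquiv ⇑Q).toEquiv]
    exact hcard.trans (by ring)
  obtain ⟨f, -, hf⟩ := FiniteField.card F 2
  have hc0 : c ≠ 0 := fun h => hc (h ▸ dvd_zero 2)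
  rw [hom, hf, ← pow_mul, Nat.factorization_mul (pow_ne_zero _ two_ne_zero) hc0, Finsupp.add_apply,
    Nat.Prime.factorization_pow Nat.prime_two, Finsupp.single_eq_same, Nat.factorization_eq_zero_of_not_dvd hc,
    add_zero]

/-- A product of numbers `q ^ k - 1` and one `q ^ k ± 1` is prime to the characteristic. -/
theorem not_dvd_order_tail (m : ℕ) :
    ¬ p ∣ (Fintype.card F ^ (m + 1) - 1) * ∏ i ∈ Finset.range m, (Fintype.card F ^ (2 * (i + 1)) - 1) ∧
    ¬ p ∣ (Fintype.card F ^ (m + 1) + 1) * ∏ i ∈ Finset.range m, (Fintype.card F ^ (2 * (i + 1)) - 1) := by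
  obtain ⟨f, hfp, hf⟩ := FiniteField.card F p
  have hdiv : ∀ k, k ≠ 0 → p ∣ Fintype.card F ^ k := fun k hk => by
    rw [hf, ← pow_mul]; exact dvd_pow_self p (Nat.mul_ne_zero f.2.ne' hk)
  have hm : ∀ k, k ≠ 0 → ¬ p ∣ Fintype.card F ^ k - 1 := fun k hk h => by
    have h' := Nat.dvd_sub (hdiv k hk) h
    rw [Nat.sub_sub_self (Nat.one_le_pow _ _ Fintype.card_pos)] at h'
    exact hp.out.not_dvd_one h'
  have hprod : ¬ p ∣ ∏ i ∈ Finset.range m, (Fintype.card F ^ (2 * (i + 1)) - 1) := fun h => by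
    obtain ⟨i, -, hi⟩ := (hp.out.prime.dvd_finsetProd_iff _).1 h
    exact hm _ (by omega) hi
  refine ⟨fun h => (hp.out.dvd_mul.1 h).elim (hm _ (Nat.succ_ne_zero m)) hprod, fun h =>
    (hp.out.dvd_mul.1 h).elim (fun h' => hp.out.not_dvd_one ((Nat.dvd_add_right (hdiv _ (Nat.succ_ne_zero m))).1 h'))
      hprod⟩

end Cfsg.Agent.PolarSteinberg
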