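/-
The plus-type form in dimension four over the field of two elements: the commutator subgroup is the group of
pairs of permutations of three points with equal signs.
-/
import Cfsg.Agent.Lib.PolarSteinberg.Small
import Cfsg.Agent.Lib.Char.Generalized
import Cfsg.Agent.Lib.Char.PermChar
import Cfsg.Agent.Lib.Forms.SmallOrth
import Cfsg.Agent.S2566
import Cfsg.Agent.Lib.ClassicalSimple.OrthMatrix

set_option autoImplicit false
set_option linter.style.haveILetI false

namespace Cfsg.Agent.PolarSteinberg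

open Equiv
open scoped commutatorElement

/-- Pairs of permutations of three points with equal signs. -/
def equalSign : Subgroup (Perm (Fin 3) × Perm (Fin 3)) where
  carrier := {x | Perm.sign x.1 = Perm.sign x.2}
  mul_mem' {a b} ha hb := by
    show Perm.sign (a * b).1 = Perm.sign (a * b).2
    rw [Prod.fst_mul, Prod.snd_mul, map_mul, map_mul, show Perm.sign a.1 = Perm.sign a.2 from ha,
      show Perm.sign b.1 = Perm.sign b.2 from hb]
  one_mem' := rfl
  inv_mem' {a} ha := by
    show Perm.sign a⁻¹.1 = Perm.sign a⁻¹.2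
    rw [Prod.fst_inv, Prod.snd_inv, map_inv, map_inv, show Perm.sign a.1 = Perm.sign a.2 from ha]

instance : DecidablePred (· ∈ equalSign) := fun x => decEq (Perm.sign x.1) (Perm.sign x.2)

/-- The character: two-dimensional on the first coordinate. -/
noncomputable def pairChar (x : equalSign) : ℂ :=
  ((((Finset.univ.filter fun i : Fin 3 => x.1.1 i = i).card : ℤ) - 1 : ℤ) : ℂ)

theorem hasSt_equalSign : HasSt 2 (equalSign ⧸ Subgroup.center equalSign) := by
  classical
  haveI : Fact (Nat.Prime 2) := ⟨Nat.prime_two⟩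
  have hcard : Nat.card equalSign = 18 := by rw [Nat.card_eq_fintype_card]; decide
  have hbot : Subgroup.center equalSign = ⊥ := by
    refine (Subgroup.eq_bot_iff_forall _).2 fun z hz => ?_
    have h : ∀ z : equalSign, (∀ g : equalSign, g * z = z * g) → z = 1 := by decide
    exact h z (Subgroup.mem_center_iff.1 hz)
  let f : equalSign →* Perm (Fin 3) := (MonoidHom.fst _ _).comp equalSign.subtype
  letI : MulAction equalSign (Fin 3) := MulAction.compHom (Fin 3) f
  have hgen : IsGeneralizedCharacter equalSign pairChar := by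
    have h := Char.IsGeneralizedCharacter.sub (Char.IsCharacter.isGeneralized (Char.isCharacter_fixedBy
      (G := equalSign) (Fin 3))) (Char.IsCharacter.isGeneralized (Char.isCharacter_one (G := equalSign)))
    refine (?_ : _ = pairChar) ▸ h
    funext x
    simp only [Pi.sub_apply, pairChar, Int.cast_sub, Int.cast_natCast, Int.cast_one]
    congr 2
    rw [← Nat.card_eq_finsetCard]
    exact Nat.card_congr (Equiv.subtypeEquivRight fun i => by simp [f]; rfl)
  have hnorm : classInner pairChar pairChar = 1 := by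
    rw [classInner, hcard]
    simp only [pairChar, map_intCast, ← Int.cast_mul, ← Int.cast_sum]
    rw [show ∑ x : equalSign, (((Finset.univ.filter fun i : Fin 3 => x.1.1 i = i).card : ℤ) - 1) *
      (((Finset.univ.filter fun i : Fin 3 => x.1.1 i = i).card : ℤ) - 1) = 18 by decide]
    norm_num
  obtain ⟨ψ, hψ⟩ := Char.IsGeneralizedCharacter.irr_or_neg_of_norm_one hgen hnorm
  have h1 : pairChar 1 = 2 := by
    rw [pairChar, show (Finset.univ.filter fun i : Fin 3 => (1 : equalSign).1.1 i = i).card = 3 by decide]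
    norm_num
  have hirr : IsIrrCharacter equalSign pairChar := by
    rcases hψ with h | h
    · exact h ▸ ψ.2
    · exfalso
      have h2 := congrFun h 1
      rw [h1, Pi.neg_apply, Char.apply_one_eq_degree] at h2
      have h3 : ((2 + Char.degree ψ : ℕ) : ℂ) = 0 := by push_cast; rw [h2]; ring
      rw [Nat.cast_eq_zero] at h3
      omega
  have hst : HasSt 2 equalSign := by
    refine ⟨pairChar, hirr, fun S => ⟨?_, fun x hx hx1 => ?_⟩⟩
    · rw [h1, S.card_eq_multiplicity, hcard, show (18 : ℕ) = 2 * 9 from rfl,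
        Nat.factorization_mul two_ne_zero (by norm_num), Finsupp.add_apply,
        Nat.Prime.factorization_self Nat.prime_two, Nat.factorization_eq_zero_of_not_dvd (by norm_num)]
      norm_num
    · obtain ⟨k, hk⟩ := mem_sylow_of_pow hx
      have hsq : x ^ 2 = 1 := by
        refine orderOf_dvd_iff_pow_eq_one.1 ?_
        have h18 : orderOf x ∣ 2 * 9 := by rw [show 2 * 9 = 18 from rfl, ← hcard]; exact orderOf_dvd_natCard x
        refine (Nat.Coprime.dvd_of_dvd_mul_right ?_ h18)
        exact Nat.Coprime.coprime_dvd_left (orderOf_dvd_of_pow_eq_one hk) (Nat.Coprime.pow_left k (by norm_num))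
      have h : ∀ x : equalSign, x * x = 1 → x ≠ 1 →
          (Finset.univ.filter fun i : Fin 3 => x.1.1 i = i).card = 1 := by decide
      rw [pairChar, h x (by rw [← sq]; exact hsq) hx1]
      norm_num
  exact hst.of_equiv ((QuotientGroup.quotientMulEquivOfEq hbot).trans QuotientGroup.quotientBot)

set_option synthInstance.maxSize 2000 in
theorem exists_conj_of_odd : ∀ a b c : Perm (Fin 3), Perm.sign a = -1 → b ≠ 1 → b * b = 1 →
    c = swap 0 1 ∨ c = b → ∃ u, u * c * u⁻¹ = a := by decide

theorem sign_eq_neg_one_iff : ∀ σ : Perm (Fin 3), Perm.sign σ = -1 ↔ σ ≠ 1 ∧ σ * σ = 1 := by decide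

/-- The commutator subgroup of a wreath-type product of two copies of `Perm (Fin 3)`. -/
theorem commutator_equiv {G : Type*} [Group G] [Finite G] (hG : Nat.card G = 72) (A B : Subgroup G)
    (eA : A ≃* Perm (Fin 3)) (eB : B ≃* Perm (Fin 3)) (hAB : A ⊓ B = ⊥)
    (hcomm : ∀ a ∈ A, ∀ b ∈ B, a * b = b * a) (g : G) (hg : A.map (MulAut.conj g).toMonoidHom = B) :
    Nonempty (commutator G ≃* equalSign) := by
  classical
  let φ : Perm (Fin 3) × Perm (Fin 3) →* G :=
    MonoidHom.noncommCoprod (A.subtype.comp eA.symm.toMonoidHom) (B.subtype.comp eB.symm.toMonoidHom)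
      fun σ τ => hcomm _ (eA.symm σ).2 _ (eB.symm τ).2
  have hφ : ∀ σ τ, φ (σ, τ) = (eA.symm σ : G) * eB.symm τ := fun σ τ => rfl
  have hinj : Function.Injective φ := by
    rw [injective_iff_map_eq_one]
    rintro ⟨σ, τ⟩ h
    rw [hφ] at h
    have hmem : (eA.symm σ : G) ∈ A ⊓ B := ⟨(eA.symm σ).2, by
      rw [eq_inv_of_mul_eq_one_left h]; exact B.inv_mem (eB.symm τ).2⟩
    rw [hAB, Subgroup.mem_bot] at hmem
    rw [hmem, one_mul] at h
    have h1 : σ = 1 := eA.symm.injective (Subtype.ext (hmem.trans (by simp)))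
    have h2 : τ = 1 := eB.symm.injective (Subtype.ext (h.trans (by simp)))
    rw [h1, h2]; rfl
  have hconjA : ∀ (x : G) σ, x ∈ φ.range → ∃ σ', x * eA.symm σ * x⁻¹ = eA.symm σ' ∧
      Perm.sign σ' = Perm.sign σ := by
    rintro x σ ⟨⟨u, v⟩, rfl⟩
    refine ⟨u * σ * u⁻¹, ?_, by rw [map_mul, map_mul, map_inv, mul_inv_cancel_comm]⟩
    rw [hφ, map_mul, map_mul, map_inv, Subgroup.coe_mul, Subgroup.coe_mul, Subgroup.coe_inv]
    have hc := hcomm _ (eA.symm σ).2 _ (eB.symm v).2
    calc ((eA.symm u : G) * eB.symm v) * eA.symm σ * ((eA.symm u : G) * eB.symm v)⁻¹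
        = (eA.symm u : G) * ((eB.symm v : G) * eA.symm σ) * (eB.symm v : G)⁻¹ * (eA.symm u : G)⁻¹ := by group
      _ = _ := by rw [← hc]; group
  set D := commutator G
  -- the involution pairs are commutators
  have hpair : ∀ σ τ, Perm.sign σ = -1 → Perm.sign τ = -1 → φ (σ, τ) ∈ D := by
    intro σ τ hσ hτ
    let t : Perm (Fin 3) := swap 0 1
    have hb : g * eA.symm t * g⁻¹ ∈ B := hg ▸ Subgroup.mem_map_of_mem _ (eA.symm t).2
    set t' := eB ⟨_, hb⟩ with ht'
    have hbt : (eB.symm t' : G) = g * eA.symm t * g⁻¹ := by rw [ht', MulEquiv.symm_apply_apply]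
    have hmem : φ (t, t') ∈ D := by
      rw [hφ, hbt]
      have htt : (eA.symm t : G) = (eA.symm t : G)⁻¹ := by
        rw [eq_inv_iff_mul_eq_one, ← Subgroup.coe_mul, ← map_mul, show t * t = 1 from swap_mul_self _ _, map_one,
          Subgroup.coe_one]
      have hcm := hcomm _ (eA.symm t).2 _ hb
      rw [hcm]
      nth_rw 2 [htt]
      exact Subgroup.commutator_mem_commutator (Subgroup.mem_top g) (Subgroup.mem_top _)
    have ht'ne : t' ≠ 1 := by
      intro h
      rw [h, map_one, Subgroup.coe_one, eq_comm, conj_eq_one_iff] at hbt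
      have : t = 1 := eA.symm.injective (Subtype.ext (hbt.trans (by simp)))
      exact absurd this (by decide)
    have ht'2 : t' * t' = 1 := by
      have hee : (eA.symm t : G) * eA.symm t = 1 := by
        rw [← Subgroup.coe_mul, ← map_mul, show t * t = 1 from swap_mul_self _ _, map_one, Subgroup.coe_one]
      refine eB.symm.injective (Subtype.ext ?_)
      rw [map_mul, Subgroup.coe_mul, hbt, map_one, Subgroup.coe_one,
        show g * eA.symm t * g⁻¹ * (g * eA.symm t * g⁻¹) = g * ((eA.symm t : G) * eA.symm t) * g⁻¹ by group,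
        hee, mul_one, mul_inv_cancel]
    have key := exists_conj_of_odd
    obtain ⟨u, hu⟩ := key σ t' t hσ ht'ne ht'2 (Or.inl rfl)
    obtain ⟨v, hv⟩ := key τ t' t' hτ ht'ne ht'2 (Or.inr rfl)
    have : φ (σ, τ) = φ (u, v) * φ (t, t') * (φ (u, v))⁻¹ := by
      rw [← map_inv, ← map_mul, ← map_mul, ← hu, ← hv]; rfl
    rw [this]
    exact (inferInstance : D.Normal).conj_mem _ hmem _
  have hle : equalSign.map φ ≤ D := by
    rintro _ ⟨⟨σ, τ⟩, h, rfl⟩
    change Perm.sign σ = Perm.sign τ at h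
    rcases Int.units_eq_one_or (Perm.sign σ) with h1 | h1
    · have ht : Perm.sign (swap 0 1 : Perm (Fin 3)) = -1 := by decide
      rw [show (σ, τ) = (σ * swap 0 1, τ * swap 0 1) * (swap 0 1, swap 0 1) by
        simp [mul_assoc], map_mul]
      exact D.mul_mem (hpair _ _ (by rw [map_mul, h1, ht, one_mul]) (by rw [map_mul, ← h, h1, ht, one_mul]))
        (hpair _ _ ht ht)
    · exact hpair σ τ h1 (h ▸ h1)
  -- the image is normal with commutative quotient
  haveI hK : φ.range.Normal := by
    refine Subgroup.normal_of_index_eq_two ?_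
    have h := φ.range.card_mul_index
    rw [← Nat.card_congr (MonoidHom.ofInjective hinj).toEquiv, hG, Nat.card_prod,
      show Nat.card (Perm (Fin 3)) = 6 by rw [Nat.card_eq_fintype_card]; decide] at h
    omega
  have hclosure : equalSign.map φ = Subgroup.closure
      {x | ∃ σ τ, Perm.sign σ = -1 ∧ Perm.sign τ = -1 ∧ φ (σ, τ) = x} := by
    refine le_antisymm ?_ ((Subgroup.closure_le _).2 ?_)
    · rintro _ ⟨⟨σ, τ⟩, h, rfl⟩
      change Perm.sign σ = Perm.sign τ at h
      rcases Int.units_eq_one_or (Perm.sign σ) with h1 | h1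
      · have ht : Perm.sign (swap 0 1 : Perm (Fin 3)) = -1 := by decide
        rw [show (σ, τ) = (σ * swap 0 1, τ * swap 0 1) * (swap 0 1, swap 0 1) by
          simp [mul_assoc], map_mul]
        exact mul_mem (Subgroup.subset_closure ⟨_, _, by rw [map_mul, h1, ht, one_mul],
          by rw [map_mul, ← h, h1, ht, one_mul], rfl⟩) (Subgroup.subset_closure ⟨_, _, ht, ht, rfl⟩)
      · exact Subgroup.subset_closure ⟨σ, τ, h1, h ▸ h1, rfl⟩
    · rintro _ ⟨σ, τ, h1, h2, rfl⟩
      exact ⟨(σ, τ), h1.trans h2.symm, rfl⟩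
  have hord := sign_eq_neg_one_iff
  haveI hN : (equalSign.map φ).Normal := by
    rw [hclosure]
    -- the generators are the products of an involution of `A` and one of `B`, and conjugation permutes these
    have hgB : ∀ b ∈ B, g * b * g⁻¹ ∈ A := by
      intro b hb
      obtain ⟨a, ha, rfl⟩ := hg.ge hb
      show g * (g * a * g⁻¹) * g⁻¹ ∈ A
      have h2 : g * g ∈ φ.range := by
        rw [← sq]
        exact Subgroup.sq_mem_of_index_two (by
          have h := φ.range.card_mul_index
          rw [← Nat.card_congr (MonoidHom.ofInjective hinj).toEquiv, hG, Nat.card_prod,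
            show Nat.card (Perm (Fin 3)) = 6 by rw [Nat.card_eq_fintype_card]; decide] at h
          omega) g
      obtain ⟨σ', hσ', -⟩ := hconjA (g * g) (eA ⟨a, ha⟩) h2
      rw [MulEquiv.symm_apply_apply] at hσ'
      rw [show g * (g * a * g⁻¹) * g⁻¹ = g * g * a * (g * g)⁻¹ by group]
      exact hσ' ▸ (eA.symm σ').2
    have hstab : ∀ x ∈ φ.range, ∀ y ∈ {x | ∃ σ τ, Perm.sign σ = -1 ∧ Perm.sign τ = -1 ∧ φ (σ, τ) = x},
        x * y * x⁻¹ ∈ {x | ∃ σ τ, Perm.sign σ = -1 ∧ Perm.sign τ = -1 ∧ φ (σ, τ) = x} := by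
      rintro _ ⟨⟨u, v⟩, rfl⟩ _ ⟨σ, τ, h1, h2, rfl⟩
      exact ⟨u * σ * u⁻¹, v * τ * v⁻¹, by rw [map_mul, map_mul, map_inv, mul_inv_cancel_comm, h1],
        by rw [map_mul, map_mul, map_inv, mul_inv_cancel_comm, h2], by rw [← map_inv, ← map_mul, ← map_mul]; rfl⟩
    have hgstab : ∀ y ∈ {x | ∃ σ τ, Perm.sign σ = -1 ∧ Perm.sign τ = -1 ∧ φ (σ, τ) = x},
        g * y * g⁻¹ ∈ {x | ∃ σ τ, Perm.sign σ = -1 ∧ Perm.sign τ = -1 ∧ φ (σ, τ) = x} := by
      rintro _ ⟨σ, τ, h1, h2, rfl⟩
      have hb : g * eA.symm σ * g⁻¹ ∈ B := hg ▸ Subgroup.mem_map_of_mem _ (eA.symm σ).2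
      have ha := hgB _ (eB.symm τ).2
      obtain ⟨h1', h1''⟩ := (hord σ).1 h1
      obtain ⟨h2', h2''⟩ := (hord τ).1 h2
      have inv2 : ∀ {H : Subgroup G} (e : H ≃* Perm (Fin 3)) (k : G) (hk : k ∈ H), k ≠ 1 → k * k = 1 →
          Perm.sign (e ⟨k, hk⟩) = -1 := fun {H} e k hk hk1 hk2 => (hord _).2
        ⟨fun h => hk1 (congrArg Subtype.val (e.injective (h.trans (map_one e).symm))),
          by rw [← map_mul, show (⟨k, hk⟩ : H) * ⟨k, hk⟩ = 1 from Subtype.ext hk2, map_one]⟩
      refine ⟨eA ⟨_, ha⟩, eB ⟨_, hb⟩, inv2 eA _ ha ?_ ?_, inv2 eB _ hb ?_ ?_, ?_⟩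
      · rw [Ne, conj_eq_one_iff]
        exact fun h => h2' (eB.symm.injective (Subtype.ext (h.trans (by simp))))
      · have hee : (eB.symm τ : G) * eB.symm τ = 1 := by rw [← Subgroup.coe_mul, ← map_mul, h2'', map_one, Subgroup.coe_one]
        rw [show g * eB.symm τ * g⁻¹ * (g * eB.symm τ * g⁻¹) = g * ((eB.symm τ : G) * eB.symm τ) * g⁻¹ by group,
          hee, mul_one, mul_inv_cancel]
      · rw [Ne, conj_eq_one_iff]
        exact fun h => h1' (eA.symm.injective (Subtype.ext (h.trans (by simp))))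
      · have hee : (eA.symm σ : G) * eA.symm σ = 1 := by rw [← Subgroup.coe_mul, ← map_mul, h1'', map_one, Subgroup.coe_one]
        rw [show g * eA.symm σ * g⁻¹ * (g * eA.symm σ * g⁻¹) = g * ((eA.symm σ : G) * eA.symm σ) * g⁻¹ by group,
          hee, mul_one, mul_inv_cancel]
      · rw [hφ, hφ, MulEquiv.symm_apply_apply, MulEquiv.symm_apply_apply, hcomm _ ha _ hb]
        group
    refine ⟨fun n hn x => ?_⟩
    have hmap : ∀ (S : Set G), (∀ y ∈ S, x * y * x⁻¹ ∈ S) → n ∈ Subgroup.closure S →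
        x * n * x⁻¹ ∈ Subgroup.closure S := fun S hS hn => by
      have h1 : MulAut.conj x n ∈ (Subgroup.closure S).map (MulAut.conj x).toMonoidHom :=
        Subgroup.mem_map_of_mem _ hn
      rw [MonoidHom.map_closure] at h1
      exact Subgroup.closure_mono (by rintro _ ⟨y, hy, rfl⟩; exact hS y hy) h1
    refine hmap _ (fun y hy => ?_) hn
    by_cases hx : x ∈ φ.range
    · exact hstab x hx y hy
    · have hgn : g ∉ φ.range := by
        intro hgr
        obtain ⟨σ', hσ', -⟩ := hconjA g (swap 0 1) hgr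
        have hmem : g * eA.symm (swap 0 1) * g⁻¹ ∈ A ⊓ B :=
          ⟨hσ' ▸ (eA.symm σ').2, hg ▸ Subgroup.mem_map_of_mem _ (eA.symm (swap 0 1)).2⟩
        rw [hAB, Subgroup.mem_bot, conj_eq_one_iff] at hmem
        have : (swap 0 1 : Perm (Fin 3)) = 1 := eA.symm.injective (Subtype.ext (hmem.trans (by simp)))
        exact absurd this (by decide)
      have h2 : φ.range.index = 2 := by
        have h := φ.range.card_mul_index
        rw [← Nat.card_congr (MonoidHom.ofInjective hinj).toEquiv, hG, Nat.card_prod,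
          show Nat.card (Perm (Fin 3)) = 6 by rw [Nat.card_eq_fintype_card]; decide] at h
        omega
      have hxg : x * g⁻¹ ∈ φ.range :=
        (Subgroup.mul_mem_iff_of_index_two h2).2 (iff_of_false hx fun h => hgn (inv_mem_iff.1 h))
      have h3 := hstab _ hxg _ (hgstab y hy)
      rwa [show x * g⁻¹ * (g * y * g⁻¹) * (x * g⁻¹)⁻¹ = x * y * x⁻¹ by group] at h3
  have hidx : (equalSign.map φ).index = 4 := by
    have h := (equalSign.map φ).card_mul_index
    rw [Subgroup.card_map_of_injective hinj, hG,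
      show Nat.card equalSign = 18 by rw [Nat.card_eq_fintype_card]; decide] at h
    omega
  have hge : D ≤ equalSign.map φ := by
    have hq : ∀ a b : G ⧸ equalSign.map φ, a * b = b * a := by
      haveI : Fact (Nat.Prime 2) := ⟨Nat.prime_two⟩
      exact IsPGroup.commutative_of_card_eq_prime_sq (p := 2) (by rw [← Subgroup.index, hidx]; rfl)
    rw [show D = ⁅(⊤ : Subgroup G), ⊤⁆ from rfl, Subgroup.commutator_le]
    intro a _ b _
    rw [← QuotientGroup.eq_one_iff]
    show (QuotientGroup.mk' (equalSign.map φ)) ⁅a, b⁆ = 1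
    rw [map_commutatorElement, commutatorElement_eq_one_iff_mul_comm]
    exact hq _ _
  exact ⟨(MulEquiv.subgroupCongr (le_antisymm hge hle)).trans (equalSign.equivMapOfInjective φ hinj).symm⟩

theorem hasSt_plus_four {F : Type*} [Field F] [Fintype F] (hF : Fintype.card F = 2) :
    HasSt 2 (POmega F (quadFormPlus 2 F)) := by
  haveI : Fact (Nat.Prime 2) := ⟨Nat.prime_two⟩
  let σ : ZMod 2 ≃+* F := FiniteField.ringEquivOfCardEq (by rw [ZMod.card, hF])
  obtain ⟨e⟩ := Forms.SmallOrth.nonempty_equiv σ (Q := quadFormPlus 2 (ZMod 2)) (Q' := quadFormPlus 2 F)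
    fun v => by simp only [quadFormPlus, map_sum, map_mul]
  obtain ⟨hcard, A, B, ⟨eA⟩, ⟨eB⟩, hAB, hcomm, -, g, hg⟩ := S2566.result
  haveI : Finite (isometryGroup (ZMod 2) (quadFormPlus 2 (ZMod 2))) := Nat.finite_of_card_ne_zero (by omega)
  obtain ⟨u⟩ := commutator_equiv hcard A B eA eB hAB hcomm g hg
  let u' : Omega F (quadFormPlus 2 F) ≃* equalSign :=
    ((e.subgroupMap _).trans (MulEquiv.subgroupCongr (ClassicalSimple.map_commutator_top e))).symm.trans u
  refine hasSt_equalSign.of_equiv (QuotientGroup.congr _ _ u' ?_)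
  exact ClassicalSimple.center_map_equiv u'

end Cfsg.Agent.PolarSteinberg
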